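import Cfsg.Agent.SuzThree.Gens

/-!
Normalisation of the coordinates and fusion inside the centraliser of the element of order three.
-/

set_option autoImplicit false
set_option linter.style.haveILetI false
set_option maxRecDepth 100000

namespace CfsgLib.SuzThree

open CfsgLib CfsgLib.Quad CfsgLib.SuzInvol Subgroup

variable {G : Type*} [Group G] [Finite G] {z : G}

/-- Change of coordinates. -/
noncomputable def transport (D : Dat z) (h : O6) : Dat z where
  Q := D.Q
  pre := D.pre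
  card := D.card
  π := fun x => h.1 (D.π x)
  π_mul := fun a ha b hb => by rw [D.π_mul a ha b hb, map_add]
  π_surj := fun m => by
    obtain ⟨q, hq, e⟩ := D.π_surj (h.1.symm m)
    exact ⟨q, hq, by rw [e, h.1.apply_symm_apply]⟩
  π_eq_zero := fun q hq => by rw [LinearEquiv.map_eq_zero_iff]; exact D.π_eq_zero q hq
  sq_iff := fun q hq => by rw [qf_oGroup]; exact D.sq_iff q hq
  comm_iff := fun a ha b hb => by rw [bf_oGroup]; exact D.comm_iff a ha b hb
  act := (MulAut.conj h).toMonoidHom.comp D.act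
  act_π := fun c q hq => by
    show h.1 (D.π _) = h.1 ((D.act c).1 (h⁻¹.1 (h.1 (D.π q))))
    rw [D.act_π c q hq]
    exact congrArg (fun t => h.1 ((D.act c).1 t)) (h.1.symm_apply_apply _).symm
  act_eq_one := fun c => by
    show h * D.act c * h⁻¹ = 1 ↔ _
    rw [conj_eq_one_iff]; exact D.act_eq_one c
  act_mem := fun c => (inferInstance : (commutator (oGroup q6)).Normal).conj_mem _ (D.act_mem c) h
  act_surj := fun k hk => by
    obtain ⟨c, hc⟩ := D.act_surj (h⁻¹ * k * h)
      (by simpa using (inferInstance : (commutator (oGroup q6)).Normal).conj_mem _ hk h⁻¹)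
    exact ⟨c, by show h * D.act c * h⁻¹ = k; rw [hc]; group⟩

/-- Adapted coordinates. -/
theorem exists_three (D : Dat z) {y : G} (hy : y ∈ centralizer ({z} : Set G)) (y3 : y ^ 3 = 1) (y1 : y ≠ 1)
    (hcard : Nat.card (Set.range fun m : M6 => (actG D y).1 m + m) ≤ 8)
    (hnwc : ∃ g : G, g * z * g⁻¹ ∈ D.Q ∧ g * z * g⁻¹ ≠ z) :
    ∃ D' : Dat z, D'.Q = D.Q ∧ Three D' y := by
  have h3 : actG D y ^ 3 = 1 := by rw [← actG_pow D hy, y3, actG_one]
  have hne : actG D y ≠ 1 := by
    intro e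
    have hQ : y ∈ D.Q := (actG_one_iff D hy).1 e
    have h1 : (⟨y, hQ⟩ : D.Q) ^ 128 = 1 := by rw [← D.card]; exact pow_card_eq_one'
    have h2 : y ^ 128 = 1 := congrArg Subtype.val h1
    rw [show 128 = 3 * 42 + 2 from rfl, pow_add, pow_mul, y3, one_pow, one_mul] at h2
    exact y1 (by
      calc y = y ^ 3 := by rw [pow_succ, h2, one_mul]
        _ = 1 := y3)
  obtain ⟨h, -, hh⟩ := std_conj h3 hne hcard
  refine ⟨transport D h, rfl, ⟨hy, y3, ?_, hnwc⟩⟩
  rw [actG_eq _ hy, ← hh, actG_eq D hy]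
  rfl

theorem vec1 : vec 1 = e0 := by decide +kernel

theorem fixed_red : ∀ v ∈ ([0, 2, 8, 10] : List ℕ), ∀ n : Fin 64,
    red (vec n.val) = vec v → red (vec (aN w0 n.val)) = vec v := by decide +kernel

theorem fixed_w : ∀ v ∈ ([0, 2, 8, 10] : List ℕ), vec v ∈ wList := by decide +kernel

theorem wJ_facts : sameW (wJ ++ w1) (w1 ++ wJ) = true ∧ sameW (wJ ++ w0) (w0 ++ w0 ++ wJ) = true ∧
    qN 5 = true ∧ qN 11 = true ∧ bN 5 11 = true ∧ aN w0 1 = 1 := by decide +kernel

variable {D : Dat z} {y : G} (T : Three D y)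
include T

theorem Three.ne_one : y ≠ 1 := fun e => by
  have h := T.act
  rw [e, actG_one, ← oW_nil] at h
  have := eq_of_sameW (u := []) (v := w0) rfl okL_small.1 h
  revert this
  decide +kernel

set_option maxHeartbeats 1000000 in
/-- The central involution moves inside the centraliser of the element of order three. -/
theorem Three.fuse : ∃ k : G, k * y = y * k ∧ k * z * k⁻¹ ∈ D.Q ∧ k * z * k⁻¹ ≠ z := by
  classical
  obtain ⟨g₀, hg, hne⟩ := T.nwc
  obtain ⟨B⟩ := exists_base D hg hne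
  have hys : y * B.s = B.s * y := comm_of_fixed D T.mem T.three B.sQ (by
    rw [T.act, B.πs, ← vec1, oW_apply okL_small.1 (by norm_num), wJ_facts.2.2.2.2.2])
  have hyz : y * z = z * y := mem_centralizer_singleton_iff.1 T.mem
  obtain ⟨g, hgdef⟩ : ∃ g, g = B.g := ⟨_, rfl⟩
  set y' := g⁻¹ * y * g with hy'
  have gz : g * z * g⁻¹ = B.s := by rw [hgdef]; exact B.gz
  have hy'C : y' ∈ centralizer ({z} : Set G) := by
    refine mem_centralizer_singleton_iff.2 ?_
    calc y' * z = g⁻¹ * (y * (g * z * g⁻¹)) * g := by rw [hy']; group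
      _ = g⁻¹ * (y * B.s) * g := by rw [gz]
      _ = g⁻¹ * (B.s * y) * g := by rw [hys]
      _ = g⁻¹ * ((g * z * g⁻¹) * y) * g := by rw [gz]
      _ = z * y' := by rw [hy']; group
  have y'3 : y' ^ 3 = 1 := by
    rw [hy', show g⁻¹ * y * g = g⁻¹ * y * (g⁻¹)⁻¹ by group, conj_pow, T.three]; group
  have hyconj : ∀ k ∈ conjQ D B.g, y * k * y⁻¹ ∈ conjQ D B.g := fun k hk =>
    B.conj_mem_g (by rw [hys, mul_inv_cancel_right]) hk
  -- four elements of the radical commuting with the element of order three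
  have hb : ∀ v ∈ ([0, 2, 8, 10] : List ℕ), ∃ b ∈ B.P, b * y = y * b ∧ red (B.wv b) = vec v := by
    intro v hv
    obtain ⟨hadm, hred⟩ := adm_rep (fixed_w v hv)
    obtain ⟨b, hbP, hbw⟩ := B.wv_surj hadm
    have hbC : b ∈ centralizer ({z} : Set G) := hbP.2
    obtain ⟨hyb, hw⟩ := B.red_wv_conj (c := y) hbP (by rw [hyz, mul_inv_cancel_right])
      (by rw [hys, mul_inv_cancel_right])
    have hw' := hw T.mem
    obtain ⟨n, hn, en⟩ := exists_code (B.wv b)
    rw [← actG_eq D T.mem, T.act, ← en, oW_apply okL_small.1 hn,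
      fixed_red v hv ⟨n, hn⟩ (by rw [en, hbw, hred]), ← hred] at hw'
    rw [← hbw] at hw'
    have hweq : B.wv (y * b * y⁻¹) = B.wv b := adm_eq (B.act_P hyb).1 (B.act_P hbP).1 hw'
    have hQ : y * b * y⁻¹ * b⁻¹ ∈ D.Q := by
      refine mem_Q_of_act_eq D hyb.2 hbC ?_
      rw [actG_eq D hyb.2, actG_eq D hbC]
      exact Subtype.ext (LinearEquiv.ext fun m => by rw [(B.act_P hyb).2, (B.act_P hbP).2, hweq])
    obtain ⟨k, hk, e⟩ := exists_intertwine D (K := D.Q ⊓ conjQ D B.g) inf_le_left T.three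
      (b := b * y * b⁻¹) (by rw [conj_pow, T.three]; group)
      (fun k hk => ⟨conj_mem_Q D T.mem hk.1, hyconj k hk.2⟩)
      (by
        rw [show y * (b * y * b⁻¹)⁻¹ = y * b * y⁻¹ * b⁻¹ by group]
        exact ⟨hQ, (mul_mem hyb.1 (inv_mem hbP.1) : y * b * y⁻¹ * b⁻¹ ∈ conjQ D B.g)⟩)
    have hkC : k ∈ centralizer ({z} : Set G) := SuzInvol.mem_C D hk.1
    refine ⟨k * b, ⟨mul_mem hk.2 hbP.1, mul_mem hkC hbC⟩, ?_, ?_⟩
    · calc k * b * y = k * (b * y * b⁻¹) * b := by group
        _ = y * k * b := by rw [e]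
        _ = _ := by group
    · rw [B.wv_eq (mul_mem hkC hbC), ← actG_eq D (mul_mem hkC hbC), actG_mul D hkC hbC, actG_Q D hk.1, one_mul,
        actG_eq D hbC, ← B.wv_eq hbC, hbw, hred]
  choose bv hbvP hbvy hbvw using hb
  -- sixteen elements
  let idx : Fin 4 → ℕ := fun i => ([0, 2, 8, 10] : List ℕ).getD i.val 0
  have hidx : ∀ i, idx i ∈ ([0, 2, 8, 10] : List ℕ) := by decide
  let vv : Fin 4 → G := fun j => ([1, z, B.s, z * B.s] : List G).getD j.val 1
  have hvv : ∀ j, B.InV (vv j) ∧ vv j * y = y * vv j ∧ vv j ∈ conjQ D B.g := by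
    intro j
    fin_cases j
    · exact ⟨(B.inV_of (Or.inl rfl)).1, by simp [vv], one_mem _⟩
    · exact ⟨(B.inV_of (Or.inr (Or.inl rfl))).1, hyz.symm, B.zg⟩
    · exact ⟨(B.inV_of (Or.inr (Or.inr (Or.inl rfl)))).1, hys.symm, B.sg⟩
    · exact ⟨(B.inV_of (Or.inr (Or.inr (Or.inr rfl)))).1,
        ((show Commute z y from hyz.symm).mul_left (show Commute B.s y from hys.symm)).eq, mul_mem B.zg B.sg⟩
  set Q' := D.Q ⊓ centralizer ({y'} : Set G) with hQ'
  have hmem : ∀ x : G, x ∈ conjQ D B.g → x * y = y * x → g⁻¹ * x * g ∈ Q' := by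
    intro x hx hxy
    refine ⟨by rw [hgdef]; exact (mem_conjQ D).1 hx, mem_centralizer_singleton_iff.2 ?_⟩
    calc g⁻¹ * x * g * y' = g⁻¹ * (x * y) * g := by rw [hy']; group
      _ = g⁻¹ * (y * x) * g := by rw [hxy]
      _ = y' * (g⁻¹ * x * g) := by rw [hy']; group
  let F : Fin 4 × Fin 4 → Q' := fun p =>
    ⟨g⁻¹ * (bv _ (hidx p.1) * vv p.2) * g, hmem _ (mul_mem (hbvP _ _).1 (hvv p.2).2.2)
      ((show Commute (bv _ (hidx p.1)) y from hbvy _ _).mul_left (hvv p.2).2.1).eq⟩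
  have hF : Function.Injective F := by
    rintro ⟨i, j⟩ ⟨i', j'⟩ e
    have e' : bv _ (hidx i) * vv j = bv _ (hidx i') * vv j' :=
      mul_left_cancel (mul_right_cancel (congrArg Subtype.val e))
    have hwv : ∀ i j, red (B.wv (bv _ (hidx i) * vv j)) = vec (idx i) := fun i j => by
      have hbC : bv _ (hidx i) ∈ centralizer ({z} : Set G) := (hbvP _ _).2
      have hvC : vv j ∈ centralizer ({z} : Set G) := SuzInvol.mem_C D (hvv j).1.1
      rw [B.wv_eq (mul_mem hbC hvC), ← actG_eq D (mul_mem hbC hvC), actG_mul D hbC hvC,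
        actG_Q D (hvv j).1.1, mul_one, actG_eq D hbC, ← B.wv_eq hbC, hbvw]
    have hii : i = i' := by
      have h1 := hwv i j
      rw [e', hwv] at h1
      have key : ∀ a b : Fin 4, vec (([0, 2, 8, 10] : List ℕ).getD a.val 0) =
          vec (([0, 2, 8, 10] : List ℕ).getD b.val 0) → a = b := by decide +kernel
      exact key _ _ h1.symm
    subst hii
    have hj : vv j = vv j' := mul_left_cancel e'
    refine Prod.ext rfl ?_
    have n1 : z ≠ 1 := D.pre.gen.ne_one
    have n2 : B.s ≠ 1 := B.s_ne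
    have n3 : B.s ≠ z := B.ne
    have n4 : z * B.s ≠ 1 := fun e => n3 (by
      rw [eq_inv_of_mul_eq_one_right e]; exact inv_eq_of_mul_eq_one_right D.pre.gen.sq)
    have n5 : z * B.s ≠ z := fun e => n2 (mul_eq_left.1 e)
    have n6 : z * B.s ≠ B.s := fun e => n1 (mul_eq_right.1 e)
    show j = j'
    fin_cases j <;> fin_cases j' <;> first | rfl | (exfalso; simp [vv, n1, n2, n3, n4, n5, n6, n1.symm,
      n2.symm, n3.symm, n4.symm, n5.symm, n6.symm] at hj)
  have h16 : 16 ≤ Nat.card Q' := by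
    have := Nat.card_le_card_of_injective F hF
    rwa [Nat.card_prod, Nat.card_fin] at this
  -- the fixed space
  let f : M6 →+ M6 := AddMonoidHom.mk' (fun m => (actG D y').1 m + m) fun a b => by simp only [map_add]; abel
  have hfix : ∀ q : Q', D.π q.1 ∈ f.ker := fun q => by
    show (actG D y').1 (D.π q.1) + D.π q.1 = 0
    rw [← actG_π D hy'C q.2.1, show y' * q.1 * y'⁻¹ = q.1 by
      rw [← mem_centralizer_singleton_iff.1 q.2.2, mul_inv_cancel_right]]
    exact add_self _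
  have h8 : 8 ≤ Nat.card f.ker := by
    let rep : f.ker → G := fun m => (D.π_surj m.1).choose
    have hrep : ∀ m : f.ker, rep m ∈ D.Q ∧ D.π (rep m) = m.1 := fun m => (D.π_surj m.1).choose_spec
    let F' : Q' → f.ker × Bool := fun q => (⟨_, hfix q⟩, decide (q.1 = rep ⟨_, hfix q⟩))
    have hF' : Function.Injective F' := by
      intro a b e
      simp only [F', Prod.mk.injEq] at e
      obtain ⟨e1, e2⟩ := e
      obtain ⟨m, hm⟩ : ∃ m, m = (⟨_, hfix a⟩ : f.ker) := ⟨_, rfl⟩
      rw [← e1, ← hm] at e2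
      have ea := eq_of_π D (hrep m).1 a.2.1 (by rw [(hrep m).2, hm])
      have eb := eq_of_π D (hrep m).1 b.2.1 (by rw [(hrep m).2, hm]; exact congrArg Subtype.val e1)
      have nz : rep m * z ≠ rep m := fun e => D.pre.gen.ne_one (mul_eq_left.1 e)
      apply Subtype.ext
      rcases ea with ea | ea <;> rcases eb with eb | eb
      · rw [ea, eb]
      · rw [ea, eb] at e2; simp [nz] at e2
      · rw [ea, eb] at e2; simp [nz] at e2
      · rw [ea, eb]
    have := Nat.card_le_card_of_injective F' hF'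
    rw [Nat.card_prod, Nat.card_eq_fintype_card (α := Bool), Fintype.card_bool] at this
    omega
  have hrange : Nat.card (Set.range fun m : M6 => (actG D y').1 m + m) ≤ 8 := by
    have h1 := AddSubgroup.card_eq_card_quotient_mul_card_addSubgroup f.ker
    rw [Nat.card_congr (QuotientAddGroup.quotientKerEquivRange f).toEquiv, Nat.card_eq_fintype_card (α := M6),
      show Fintype.card M6 = 64 by simp [M6, I6]] at h1
    have h2 : Nat.card f.range * 8 ≤ 64 := h1 ▸ Nat.mul_le_mul_left _ h8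
    have h3 : Nat.card (Set.range fun m : M6 => (actG D y').1 m + m) = Nat.card f.range := rfl
    omega
  have hne' : actG D y' ≠ 1 := by
    intro e
    have hQ : y' ∈ D.Q := (actG_one_iff D hy'C).1 e
    have h1 : (⟨y', hQ⟩ : D.Q) ^ 128 = 1 := by rw [← D.card]; exact pow_card_eq_one'
    have h2 : y' ^ 128 = 1 := congrArg Subtype.val h1
    rw [show 128 = 3 * 42 + 2 from rfl, pow_add, pow_mul, y'3, one_pow, one_mul] at h2
    have h4 : y' = 1 := by
      calc y' = y' ^ 3 := by rw [pow_succ, h2, one_mul]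
        _ = 1 := y'3
    refine T.ne_one ?_
    calc y = g * y' * g⁻¹ := by rw [hy']; group
      _ = 1 := by rw [h4]; group
  obtain ⟨h, hΩ, hh⟩ := std_conj (by rw [← actG_pow D hy'C, y'3, actG_one]) hne' hrange
  obtain ⟨c, hc, ec⟩ := actG_surj D hΩ
  have hcy : c * y' * c⁻¹ ∈ centralizer ({z} : Set G) := mul_mem (mul_mem hc hy'C) (inv_mem hc)
  obtain ⟨q, hq, e⟩ := exists_intertwine D le_rfl (a := c * y' * c⁻¹) (b := y) (by rw [conj_pow, y'3]; group)
    T.three (fun k hk => conj_mem_Q D hcy hk)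
    (mem_Q_of_act_eq D hcy T.mem (by
      rw [actG_mul D (mul_mem hc hy'C) (inv_mem hc), actG_mul D hc hy'C, actG_inv D hc, ec, hh, T.act]))
  refine ⟨g * c⁻¹ * q, ?_, ?_⟩
  · calc g * c⁻¹ * q * y = g * c⁻¹ * (q * y) := by group
      _ = g * c⁻¹ * (c * y' * c⁻¹ * q) := by rw [e]
      _ = y * (g * c⁻¹ * q) := by rw [hy']; group
  · have hk : g * c⁻¹ * q * z * (g * c⁻¹ * q)⁻¹ = B.s := by
      have e1 : q * z * q⁻¹ = z := by rw [(D.pre.gen.comm_z q hq).eq, mul_inv_cancel_right]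
      have e2 : c⁻¹ * z * c = z := by
        rw [mul_assoc, ← mem_centralizer_singleton_iff.1 hc, inv_mul_cancel_left]
      calc g * c⁻¹ * q * z * (g * c⁻¹ * q)⁻¹ = g * (c⁻¹ * (q * z * q⁻¹) * c) * g⁻¹ := by group
        _ = _ := by rw [e1, e2, gz]
    rw [hk]
    exact ⟨B.sQ, B.ne⟩

/-- An element inverting the element of order three and commuting with a given lift of the second
rotation. -/
theorem Three.exists_inverter {h : G} (hh : h ∈ Kc T) (h3 : h ^ 3 = 1) (ha : actG D h = oW w1) :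
    ∃ w : G, w * y * w⁻¹ = y⁻¹ ∧ w * h = h * w ∧ w ∈ centralizer ({z} : Set G) := by
  obtain ⟨hhC, hhy⟩ := (mem_Kc T).1 hh
  obtain ⟨w₁, hw₁, w₁h, -, ew⟩ := lift_comm D hhC hhC h3 h3 rfl (h := oW wJ)
    ((parity_mem okL_small.2.2.2.2.2.2).2 (by decide))
    (by rw [ha, ← oW_append, ← oW_append]; exact oW_eq (by decide +kernel) (by decide +kernel) wJ_facts.1)
    (by rw [ha, ← oW_append, ← oW_append]; exact oW_eq (by decide +kernel) (by decide +kernel) wJ_facts.1)
  have hc : w₁ * y * w₁⁻¹ ∈ centralizer ({z} : Set G) := mul_mem (mul_mem hw₁ T.mem) (inv_mem hw₁)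
  have hch : Commute (w₁ * y * w₁⁻¹) h :=
    ((show Commute w₁ h from w₁h).mul_left (show Commute y h from hhy.symm)).mul_left
      (show Commute w₁ h from w₁h).inv_left
  obtain ⟨q, hq, e⟩ := exists_intertwine D (K := D.Q ⊓ centralizer ({h} : Set G)) inf_le_left
    (a := w₁ * y * w₁⁻¹) (b := y⁻¹) (by rw [conj_pow, T.three]; group) (by rw [inv_pow, T.three, inv_one])
    (fun k hk => ⟨conj_mem_Q D hc hk.1, mem_centralizer_singleton_iff.2
      ((hch.mul_left (show Commute k h from mem_centralizer_singleton_iff.1 hk.2)).mul_left hch.inv_left).eq⟩)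
    (by
      rw [inv_inv]
      refine ⟨(actG_one_iff D (mul_mem hc T.mem)).1 ?_,
        mem_centralizer_singleton_iff.2 (hch.mul_left (show Commute y h from hhy.symm)).eq⟩
      have hY : oW wJ * oW w0 = oW w0 * oW w0 * oW wJ := by
        rw [← oW_append, ← oW_append, ← oW_append]
        exact oW_eq (by decide +kernel) (by decide +kernel) wJ_facts.2.1
      have h03 : oW w0 * oW w0 * oW w0 = 1 := by
        rw [← T.act, ← actG_mul D T.mem T.mem, ← actG_mul D (mul_mem T.mem T.mem) T.mem, ← actG_one D]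
        congr 1
        rw [← T.three, pow_succ, pow_two]
      rw [actG_mul D hc T.mem, actG_mul D (mul_mem hw₁ T.mem) (inv_mem hw₁), actG_mul D hw₁ T.mem,
        actG_inv D hw₁, ew, T.act, hY, mul_inv_cancel_right, h03])
  refine ⟨q⁻¹ * w₁, ?_, ?_, mul_mem (SuzInvol.mem_C D (inv_mem hq.1)) hw₁⟩
  · calc q⁻¹ * w₁ * y * (q⁻¹ * w₁)⁻¹ = q⁻¹ * (w₁ * y * w₁⁻¹ * q) := by group
      _ = y⁻¹ := by rw [e]; group
  · exact ((show Commute q h from mem_centralizer_singleton_iff.1 hq.2).inv_left.mul_left w₁h).eq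

/-- A lift of the second rotation is conjugate to the first. -/
theorem Three.conj_h {h : G} (hh : h ∈ centralizer ({z} : Set G)) (h3 : h ^ 3 = 1) (ha : actG D h = oW w1) :
    ∃ k : G, k * h * k⁻¹ = y := by
  obtain ⟨g, hg, g5, g11⟩ := pair_std (p := vec 5) (p' := vec 11)
    (by rw [vec_facts.2 ⟨5, by norm_num⟩]; simp [wJ_facts.2.2.1])
    (by rw [vec_facts.2 ⟨11, by norm_num⟩]; simp [wJ_facts.2.2.2.1])
    (by rw [bf_vec ⟨5, by norm_num⟩ ⟨11, by norm_num⟩]; simp [wJ_facts.2.2.2.2.1])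
  have hconj : g * oW w1 * g⁻¹ = oW w0 := by
    simp only [w1, w0, oW_cons, oW_nil, mul_one]
    rw [← g5, ← g11, ← refl_conj, ← refl_conj]
    group
  obtain ⟨c, hc, ec⟩ := actG_surj D hg
  have hch : c * h * c⁻¹ ∈ centralizer ({z} : Set G) := mul_mem (mul_mem hc hh) (inv_mem hc)
  obtain ⟨q, -, e⟩ := exists_intertwine D le_rfl (a := c * h * c⁻¹) (b := y) (by rw [conj_pow, h3]; group)
    T.three (fun k hk => conj_mem_Q D hch hk)
    (mem_Q_of_act_eq D hch T.mem (by
      rw [actG_mul D (mul_mem hc hh) (inv_mem hc), actG_mul D hc hh, actG_inv D hc, ec, ha, hconj, T.act]))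
  refine ⟨q⁻¹ * c, ?_⟩
  calc q⁻¹ * c * h * (q⁻¹ * c)⁻¹ = q⁻¹ * (c * h * c⁻¹ * q) := by group
    _ = y := by rw [e]; group

end CfsgLib.SuzThree
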