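import Cfsg.Agent.SuzThree.Pair
import Cfsg.Agent.SuzThree.Fuse
import Cfsg.Agent.U43Type.RootComm
import Cfsg.Agent.Unitary.Simple
import Cfsg.Agent.U33Degrees.Transfer
import Mathlib.GroupTheory.IsPerfect
import Cfsg.Prelude.Def_CaseTheorems

/-!
The centraliser of the element of order three is quasisimple with quotient `U₄(3)`.
-/

set_option autoImplicit false
set_option linter.style.haveILetI false
set_option maxRecDepth 100000

namespace CfsgLib.SuzThree

open CfsgLib CfsgLib.Quad CfsgLib.SuzInvol CfsgLib.U43Type Subgroup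
open scoped commutatorElement

variable {G : Type*} [Group G] [Finite G] {z : G} {D : Dat z} {y : G}

set_option maxHeartbeats 4000000 in
/-- The main statement. -/
theorem main (T : Three D y) (Yc : Subgroup G) (hYc : Yc = zpowers y)
    [(Yc.subgroupOf (centralizer (Yc : Set G))).Normal] (F : Type) [Field F] [Fintype F] (hF : Fintype.card F = 9) :
    Cfsg.IsQuasisimple ↥(centralizer (Yc : Set G)) ∧
      Nonempty (↥(centralizer (Yc : Set G)) ⧸ Yc.subgroupOf (centralizer (Yc : Set G)) ≃* Cfsg.PSU 4 F 3) ∧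
      (centralizer (Yc : Set G)).relIndex (normalizer (Yc : Set G)) = 2 := by
  classical
  obtain ⟨ψ, P, hmem, hzX, hPair⟩ := exists_pair T Yc hYc
  set X := centralizer (Yc : Set G) with hXdef
  set N := Yc.subgroupOf X with hN
  have hX : ∀ x : G, x ∈ X ↔ x * y = y * x := fun x => by
    rw [hXdef, hYc, zpowers_eq_closure, centralizer_closure, mem_centralizer_singleton_iff]
  let mk : X →* X ⧸ N := QuotientGroup.mk' N
  have hmk : ∀ a b : X, mk a = mk b → ∃ e : Fin 3, (b : G) = a * y ^ e.val := by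
    intro a b h
    have h' : a⁻¹ * b ∈ N := QuotientGroup.eq.1 h
    rw [hN, mem_subgroupOf, hYc] at h'
    obtain ⟨e, he⟩ := mem_zpowers_three T h'
    exact ⟨e, by rw [← he]; simp⟩
  let incl : Kc T →* X := (Subgroup.inclusion fun x hx => (hX x).2 ((mem_Kc T).1 hx).2)
  let mK : Kc T →* X ⧸ N := mk.comp incl
  let ψK : SL × SL →* Kc T := ψ.codRestrict _ P.mem
  let φ : SL × SL →* X ⧸ N := mK.comp ψK
  have hPair : Pair (mk ⟨z, hzX⟩) φ := hPair
  obtain ⟨φ', s, i, L⟩ := hPair.exists_loc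
  obtain ⟨e₉⟩ := L.iso
  have hcard : Fintype.card CfsgLib.J2.Perm.F9 = Fintype.card F := by rw [hF, CfsgLib.J2.Perm.F9.card]
  let eU : X ⧸ N ≃* Cfsg.PSU 4 F 3 :=
    e₉.trans (CfsgLib.U33Deg.psuCongr (FiniteField.ringEquivOfCardEq (K := CfsgLib.J2.Perm.F9) (K' := F) hcard))
  haveI hsU : IsSimpleGroup (Cfsg.PSU 4 F 3) :=
    CfsgLib.Unitary.isSimpleGroup_PSU (by rw [Nat.card_eq_fintype_card, hF]; norm_num) (by norm_num) (by norm_num)
  haveI : Nontrivial (X ⧸ N) := eU.toEquiv.nontrivial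
  haveI hsQ : IsSimpleGroup (X ⧸ N) := IsSimpleGroup.isSimpleGroup_of_surjective eU.symm.toMonoidHom eU.symm.surjective
  have hna : ¬ ∀ a b : X ⧸ N, a * b = b * a := by
    intro h
    have hne : φ (aS, 1) * φ (bS, 1) ≠ φ (bS, 1) * φ (aS, 1) := by
      rw [← map_mul, ← map_mul, ne_eq, hPair.eq_iff]
      have key : aS * bS ≠ bS * aS ∧ (1 : SL) ≠ j₀ := by decide +kernel
      simp [key.1, key.2]
    exact hne (h _ _)
  -- perfect
  haveI hperfQ : Group.IsPerfect (X ⧸ N) := by
    refine ⟨((inferInstance : (commutator (X ⧸ N)).Normal).eq_bot_or_eq_top).resolve_left fun h => hna fun a b => ?_⟩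
    have : ⁅a, b⁆ ∈ commutator (X ⧸ N) := commutator_mem_commutator (mem_top a) (mem_top b)
    rw [h, mem_bot] at this
    exact commutatorElement_eq_one_iff_mul_comm.1 this
  have hsurj : ∀ t : X ⧸ N, ∃ u ∈ commutator X, mk u = t := by
    intro t
    have h1 : (commutator X).map mk = commutator (X ⧸ N) := by
      rw [_root_.commutator_def, _root_.commutator_def, map_commutator,
        Subgroup.map_top_of_surjective _ (QuotientGroup.mk'_surjective N)]
    have : t ∈ (commutator X).map mk := by rw [h1, hperfQ.commutator_eq_top]; trivial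
    obtain ⟨u, hu, e⟩ := this
    exact ⟨u, hu, e⟩
  set yX : X := ⟨y, (hX y).2 rfl⟩ with hyX
  have hyin : yX ∈ commutator X := by
    by_contra hny
    have hsplit : ∀ e : Fin 3, yX ^ e.val ∈ commutator X → e = 0 := by
      intro e he
      fin_cases e
      · rfl
      · exact absurd (by simpa using he) hny
      · refine absurd ?_ hny
        have h2 : (yX ^ 2) ^ 2 ∈ commutator X := pow_mem he 2
        have : (yX ^ 2) ^ 2 = yX := Subtype.ext (by
          show (y ^ 2) ^ 2 = y
          rw [← pow_mul, show 2 * 2 = 3 + 1 from rfl, pow_succ, T.three, one_mul])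
        rwa [this] at h2
    have hinj : ∀ u ∈ commutator X, ∀ v ∈ commutator X, mk u = mk v → u = v := by
      intro u hu v hv h
      obtain ⟨e, he⟩ := hmk u v h
      have hv' : u⁻¹ * v = yX ^ e.val := Subtype.ext (by
        show (u : G)⁻¹ * v = y ^ e.val
        rw [he, inv_mul_cancel_left])
      have := hsplit e (hv' ▸ mul_mem (inv_mem hu) hv)
      rw [this] at hv'
      simpa [inv_mul_eq_one] using hv'
    -- the lift of the element of order three in the derived group
    set h₁ : Kc T := ψK (h₀, 1) with hh₁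
    have h₁act : actG D (h₁ : G) = oW w1 := P.hact
    have h₁3 : (h₁ : G) ^ 3 = 1 := P.hcube
    obtain ⟨u₁, hu₁, hu₁e⟩ := hsurj (φ (h₀, 1))
    obtain ⟨e, he⟩ := hmk (incl h₁) u₁ hu₁e.symm
    obtain ⟨w, hwy, hwh, hwC⟩ := T.exists_inverter h₁.2 h₁3 h₁act
    have hwX : ∀ t : G, t ∈ X → w * t * w⁻¹ ∈ X := by
      intro t ht
      rw [hX] at ht ⊢
      have hwy' : w * y⁻¹ * w⁻¹ = y := by rw [← conj_inv, hwy, inv_inv]
      calc w * t * w⁻¹ * y = w * t * w⁻¹ * (w * y⁻¹ * w⁻¹) := by rw [hwy']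
        _ = w * (t * y⁻¹) * w⁻¹ := by group
        _ = w * (y⁻¹ * t) * w⁻¹ := by rw [(show Commute t y from ht).inv_right.eq]
        _ = (w * y⁻¹ * w⁻¹) * (w * t * w⁻¹) := by group
        _ = _ := by rw [hwy']
    let γ : X →* X :=
      { toFun := fun t => ⟨w * t * w⁻¹, hwX _ t.2⟩
        map_one' := Subtype.ext (by simp)
        map_mul' := fun a b => Subtype.ext (by simp [mul_assoc]) }
    have hγ : ∀ t ∈ commutator X, γ t ∈ commutator X := fun t ht => by
      have h1 : (commutator X).map γ ≤ commutator X := by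
        rw [_root_.commutator_def, map_commutator]
        exact commutator_mono le_top le_top
      exact h1 ⟨t, ht, rfl⟩
    have he0 : e = 0 := by
      have h1 : u₁⁻¹ * γ u₁ ∈ commutator X := mul_mem (inv_mem hu₁) (hγ _ hu₁)
      have h2 : u₁⁻¹ * γ u₁ = yX ^ e.val := Subtype.ext (by
        show (u₁ : G)⁻¹ * (w * (u₁ : G) * w⁻¹) = y ^ e.val
        have hyh : Commute (y ^ e.val) (h₁ : G) :=
          ((show Commute (h₁ : G) y from ((mem_Kc T).1 h₁.2).2).symm).pow_left _
        have hwh' : w * (h₁ : G) * w⁻¹ = h₁ := by rw [hwh, mul_inv_cancel_right]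
        have hwye : w * y ^ e.val * w⁻¹ = (y ^ e.val)⁻¹ := by rw [← conj_pow, hwy, inv_pow]
        rw [he]
        show ((h₁ : G) * y ^ e.val)⁻¹ * (w * ((h₁ : G) * y ^ e.val) * w⁻¹) = y ^ e.val
        rw [show w * ((h₁ : G) * y ^ e.val) * w⁻¹ = (w * (h₁ : G) * w⁻¹) * (w * y ^ e.val * w⁻¹) by group,
          hwh', hwye]
        have h3 : (y ^ e.val) ^ 3 = 1 := by rw [← pow_mul, mul_comm, pow_mul, T.three, one_pow]
        calc ((h₁ : G) * y ^ e.val)⁻¹ * ((h₁ : G) * (y ^ e.val)⁻¹) = (y ^ e.val)⁻¹ * (y ^ e.val)⁻¹ := by group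
          _ = ((y ^ e.val) ^ 3)⁻¹ * y ^ e.val := by group
          _ = y ^ e.val := by rw [h3]; group)
      exact hsplit e (h2 ▸ h1)
    have hh₁X : incl h₁ ∈ commutator X := by
      have : u₁ = incl h₁ := Subtype.ext (by rw [he, he0, Fin.val_zero, pow_zero, mul_one])
      exact this ▸ hu₁
    obtain ⟨U, V, hU, hV, hUV⟩ := hPair.selfComm_of_factor (w := h₀)
      (by decide +kernel) (by decide +kernel)
    obtain ⟨u, hu, rfl⟩ := hsurj U
    obtain ⟨v, hv, rfl⟩ := hsurj V
    have hφh : φ (h₀, 1) = mk (incl h₁) := rfl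
    rw [hφh, ← map_mul, ← map_mul] at hU hV
    rw [hφh, ← map_inv, ← map_inv, ← map_mul, ← map_mul, ← map_mul] at hUV
    have eU := hinj _ (mul_mem hu hh₁X) _ (mul_mem hh₁X hu) hU
    have eV := hinj _ (mul_mem hv hh₁X) _ (mul_mem hh₁X hv) hV
    have eUV := hinj _ (mul_mem (mul_mem (mul_mem hu hv) (inv_mem hu)) (inv_mem hv)) _ hh₁X hUV
    obtain ⟨k, hk⟩ := T.conj_h ((mem_Kc T).1 h₁.2).1 h₁3 h₁act
    have hkc : ∀ t : X, t * incl h₁ = incl h₁ * t → k * (t : G) * k⁻¹ ∈ X := by
      intro t ht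
      rw [hX, ← hk]
      have ht' : (t : G) * (h₁ : G) = (h₁ : G) * t := congrArg Subtype.val ht
      calc k * (t : G) * k⁻¹ * (k * (h₁ : G) * k⁻¹) = k * ((t : G) * h₁) * k⁻¹ := by group
        _ = k * ((h₁ : G) * t) * k⁻¹ := by rw [ht']
        _ = _ := by group
    have hmem : ⁅(⟨k * (u : G) * k⁻¹, hkc u eU⟩ : X), (⟨k * (v : G) * k⁻¹, hkc v eV⟩ : X)⁆ ∈ commutator X :=
      commutator_mem_commutator (mem_top _) (mem_top _)
    have heq : ⁅(⟨k * (u : G) * k⁻¹, hkc u eU⟩ : X), (⟨k * (v : G) * k⁻¹, hkc v eV⟩ : X)⁆ = yX := by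
      refine Subtype.ext ?_
      have : (u : G) * v * (u : G)⁻¹ * (v : G)⁻¹ = (h₁ : G) := congrArg Subtype.val eUV
      show (k * (u : G) * k⁻¹) * (k * (v : G) * k⁻¹) * (k * (u : G) * k⁻¹)⁻¹ * (k * (v : G) * k⁻¹)⁻¹ = y
      rw [← hk, ← this]; group
    exact hny (heq ▸ hmem)
  have hperf : Group.IsPerfect X := by
    refine ⟨eq_top_iff.2 fun t _ => ?_⟩
    obtain ⟨u, hu, hue⟩ := hsurj (mk t)
    obtain ⟨e, he⟩ := hmk u t hue
    have : t = u * yX ^ e.val := Subtype.ext he
    rw [this]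
    exact mul_mem hu (pow_mem hyin _)
  have hcenter : Subgroup.center X = N := by
    refine le_antisymm (fun t ht => ?_) fun t ht => ?_
    · have hmc : mk t ∈ Subgroup.center (X ⧸ N) := by
        refine mem_center_iff.2 fun g => ?_
        obtain ⟨g', rfl⟩ := QuotientGroup.mk'_surjective N g
        show mk g' * mk t = mk t * mk g'
        rw [← map_mul, ← map_mul, mem_center_iff.1 ht g']
      rcases (inferInstance : (Subgroup.center (X ⧸ N)).Normal).eq_bot_or_eq_top with h | h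
      · rw [h, mem_bot] at hmc
        exact (QuotientGroup.eq_one_iff t).1 hmc
      · exact absurd (fun a b => (mem_center_iff.1 (h.symm ▸ mem_top a) b).symm) hna
    · rw [hN, mem_subgroupOf, hYc] at ht
      obtain ⟨e, he⟩ := mem_zpowers_three T ht
      refine mem_center_iff.2 fun g => Subtype.ext ?_
      show (g : G) * (t : G) = (t : G) * g
      rw [he]
      exact ((show Commute (g : G) y from (hX _).1 g.2).pow_right _).eq
  refine ⟨⟨hperf, ?_⟩, ⟨eU⟩, ?_⟩
  · let eC := (QuotientGroup.quotientMulEquivOfEq hcenter).symm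
    haveI : Nontrivial (X ⧸ Subgroup.center X) := eC.toEquiv.symm.nontrivial
    exact IsSimpleGroup.isSimpleGroup_of_surjective eC.toMonoidHom eC.surjective
  · obtain ⟨ψ₁, P₁⟩ := T.exists_psi
    obtain ⟨w, hwy, -, -⟩ := T.exists_inverter (P₁.mem (h₀, 1)) P₁.hcube P₁.hact
    rw [relIndex_eq_two_iff]
    have hwN : w ∈ normalizer (Yc : Set G) := by
      rw [hYc, mem_normalizer_iff]
      intro t
      have hmap : ∀ t ∈ zpowers y, w * t * w⁻¹ ∈ zpowers y := by
        rintro _ ⟨n, rfl⟩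
        show w * y ^ n * w⁻¹ ∈ _
        rw [← conj_zpow, hwy]
        exact zpow_mem (inv_mem (mem_zpowers y)) n
      refine ⟨hmap t, fun h => ?_⟩
      have h2 : w⁻¹ * y * w = y⁻¹ := by
        have := congrArg (fun t => w⁻¹ * t⁻¹ * w) hwy
        simp only [inv_inv] at this
        rw [← this]; group
      obtain ⟨n, hn⟩ := h
      have : t = (w⁻¹ * y * w) ^ n := by
        rw [show w⁻¹ * y * w = w⁻¹ * y * (w⁻¹)⁻¹ by group, conj_zpow,
          show y ^ n = w * t * w⁻¹ from hn]
        group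
      rw [this, h2]
      exact zpow_mem (inv_mem (mem_zpowers y)) n
    have hy2 : y ≠ y⁻¹ := fun h => T.ne_one (by
      have h2 : y * y = 1 := by nth_rewrite 2 [h]; exact mul_inv_cancel y
      have := T.three
      rwa [pow_succ, pow_two, h2, one_mul] at this)
    refine ⟨w, hwN, fun b hb => ?_⟩
    have hby : b * y * b⁻¹ = y ∨ b * y * b⁻¹ = y⁻¹ := by
      have h := (mem_normalizer_iff.1 hb y).1 (by rw [hYc]; exact mem_zpowers y)
      rw [hYc] at h
      obtain ⟨e, he⟩ := mem_zpowers_three T h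
      fin_cases e
      · exact absurd (conj_eq_one_iff.1 (he.trans (pow_zero y))) T.ne_one
      · exact Or.inl (he.trans (pow_one y))
      · right
        rw [he]
        refine eq_inv_of_mul_eq_one_left ?_
        rw [← pow_succ]; exact T.three
    have key : ∀ a : G, a ∈ X ↔ a * y * a⁻¹ = y := fun a => by rw [hX, mul_inv_eq_iff_eq_mul]
    rw [key, key]
    have hbw : b * w * y * (b * w)⁻¹ = (b * y * b⁻¹)⁻¹ := by
      calc b * w * y * (b * w)⁻¹ = b * (w * y * w⁻¹) * b⁻¹ := by group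
        _ = _ := by rw [hwy]; group
    rw [hbw]
    rcases hby with h | h <;> rw [h]
    · exact Or.inr ⟨rfl, hy2.symm⟩
    · refine Or.inl ⟨inv_inv y, hy2.symm⟩

end CfsgLib.SuzThree
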