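import Cfsg.Agent.SuzThree.Frame
import Cfsg.Agent.SuzThree.Fuse
import Cfsg.Agent.U43Type.Pair
import Cfsg.Agent.U43Type.Four

/-!
The image of the centraliser of the involution in the centraliser of the element of order three, modulo
that element, is a centraliser of `U₄(3)` type.
-/

set_option autoImplicit false
set_option linter.style.haveILetI false
set_option maxRecDepth 100000

namespace CfsgLib.SuzThree

open CfsgLib CfsgLib.Quad CfsgLib.SuzInvol CfsgLib.U43Type Subgroup
open scoped commutatorElement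

theorem el_small : (∀ e : Fin 3, el e.val = (List.replicate e.val w0).flatten) ∧
    (∀ e : Fin 3, aN (List.replicate e.val w0).flatten 16 = 16 → e = 0) ∧
    (∀ e : Fin 3, okL (List.replicate e.val w0).flatten = true) := by decide +kernel

variable {G : Type*} [Group G] [Finite G] {z : G} {D : Dat z} {y : G}

theorem act_ypow (T : Three D y) (e : ℕ) : actG D (y ^ e) = oW (List.replicate e w0).flatten := by
  rw [oW_flatten, actG_pow D T.mem, T.act]

omit [Finite G] in
theorem mem_zpowers_three (T : Three D y) {x : G} (h : x ∈ zpowers y) : ∃ e : Fin 3, x = y ^ e.val := by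
  obtain ⟨n, rfl⟩ := mem_zpowers_iff.1 h
  refine ⟨⟨(n % 3).toNat, by omega⟩, ?_⟩
  have h3 : y ^ (3 : ℤ) = 1 := by exact_mod_cast T.three
  rw [← zpow_natCast, Int.toNat_of_nonneg (Int.emod_nonneg _ (by norm_num))]
  conv_lhs => rw [← Int.emod_add_mul_ediv n 3, zpow_add, zpow_mul, h3, one_zpow, mul_one]

omit [Finite G] in
theorem pow_two_part (T : Three D y) {a b : G} (ha : a ^ 128 = 1) (hb : b ^ 128 = 1) (hby : b * y = y * b)
    {e : ℕ} (h : a = b * y ^ e) : a = b := by
  have h1 : (y ^ e) ^ 128 = 1 := by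
    have := congrArg (fun t => t ^ 128) h
    simp only [(show Commute b y from hby).pow_right e |>.mul_pow, ha, hb, one_mul] at this
    exact this.symm
  have h2 : (y ^ e) ^ 3 = 1 := by rw [← pow_mul, mul_comm, pow_mul, T.three, one_pow]
  have h3 : y ^ e = 1 := by
    rw [show 128 = 3 * 42 + 2 from rfl, pow_add, pow_mul, h2, one_pow, one_mul] at h1
    rw [pow_succ, h1, one_mul] at h2
    exact h2
  rw [h, h3, mul_one]

theorem pow_Q {q : G} (hq : q ∈ D.Q) : q ^ 128 = 1 := by
  have h1 : (⟨q, hq⟩ : D.Q) ^ 128 = 1 := by rw [← D.card]; exact pow_card_eq_one'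
  exact congrArg Subtype.val h1

set_option maxHeartbeats 4000000 in
/-- The data of a centraliser of `U₄(3)` type. -/
theorem exists_pair (T : Three D y) (Yc : Subgroup G) (hYc : Yc = zpowers y)
    [(Yc.subgroupOf (centralizer (Yc : Set G))).Normal] :
    ∃ (ψ : SL × SL →* G) (_ : Psi T ψ) (hmem : ∀ p, ψ p ∈ centralizer (Yc : Set G))
      (hz : z ∈ centralizer (Yc : Set G)),
      Pair (QuotientGroup.mk' (Yc.subgroupOf (centralizer (Yc : Set G))) ⟨z, hz⟩)
        ((QuotientGroup.mk' (Yc.subgroupOf (centralizer (Yc : Set G)))).comp (ψ.codRestrict _ hmem)) := by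
  classical
  set X := centralizer (Yc : Set G) with hXdef
  set N := Yc.subgroupOf X with hN
  have hX : ∀ x : G, x ∈ X ↔ x * y = y * x := fun x => by
    rw [hXdef, hYc, zpowers_eq_closure, centralizer_closure, mem_centralizer_singleton_iff]
  let mk : X →* X ⧸ N := QuotientGroup.mk' N
  have hmk : ∀ a b : X, mk a = mk b → ∃ e : Fin 3, (b : G) = a * y ^ e.val := by
    intro a b h
    have h' : a⁻¹ * b ∈ N := QuotientGroup.eq.1 h
    rw [hN, mem_subgroupOf, hYc] at h'
    obtain ⟨e, he⟩ := mem_zpowers_three T h'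
    exact ⟨e, by rw [← he]; simp⟩
  have hzy : z * y = y * z := (mem_centralizer_singleton_iff.1 T.mem).symm
  have zz : z * z = 1 := D.pre.gen.sq
  have z128 : z ^ 128 = 1 := pow_Q D.pre.gen.mem
  let zX : X := ⟨z, (hX z).2 hzy⟩
  set zb := mk zX with hzb
  have hzb1 : zb ≠ 1 := by
    intro h
    obtain ⟨e, he⟩ := hmk 1 zX (by rw [map_one]; exact h.symm)
    rw [show ((1 : X) : G) = 1 from rfl] at he
    exact D.pre.gen.ne_one (pow_two_part T z128 (one_pow _) (by simp) he)
  have hzord : orderOf zb = 2 := by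
    refine orderOf_eq_prime ?_ hzb1
    rw [pow_two, hzb, ← map_mul, show zX * zX = 1 from Subtype.ext zz, map_one]
  let incl : Kc T →* X := (Subgroup.inclusion fun x hx => (hX x).2 ((mem_Kc T).1 hx).2)
  let mK : Kc T →* X ⧸ N := mk.comp incl
  have hrangeK : mK.range = centralizer ({zb} : Set (X ⧸ N)) := by
    ext g
    constructor
    · rintro ⟨x, rfl⟩
      rw [mem_centralizer_singleton_iff]
      show mk (incl x) * mk zX = mk zX * mk (incl x)
      rw [← map_mul, ← map_mul]
      exact congrArg mk (Subtype.ext (mem_centralizer_singleton_iff.1 ((mem_Kc T).1 x.2).1))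
    · intro hg
      obtain ⟨x, rfl⟩ := QuotientGroup.mk'_surjective N g
      rw [mem_centralizer_singleton_iff] at hg
      have hcomm : mk (x * zX * x⁻¹) = mk zX := by
        rw [map_mul, map_mul, map_inv]
        exact mul_inv_eq_iff_eq_mul.2 hg
      obtain ⟨e, he⟩ := hmk _ _ hcomm.symm
      have hxz : (x : G) * z * (x : G)⁻¹ = z :=
        pow_two_part T (by rw [conj_pow, z128]; group) z128 hzy (e := e.val) he
      refine ⟨⟨x, (mem_Kc T).2 ⟨mem_centralizer_singleton_iff.2 (mul_inv_eq_iff_eq_mul.1 hxz), (hX _).1 x.2⟩⟩, ?_⟩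
      rfl
  have hcardC : Nat.card (centralizer ({zb} : Set (X ⧸ N))) = 1152 := by
    have h1 := Subgroup.card_eq_card_quotient_mul_card_subgroup mK.ker
    rw [Nat.card_congr (QuotientGroup.quotientKerEquivRange mK).toEquiv, hrangeK, T.card_Kc] at h1
    have hk : Nat.card mK.ker = 3 := by
      let g : Fin 3 → mK.ker := fun e => ⟨⟨y ^ e.val, pow_mem T.y_Kc _⟩, by
        refine (QuotientGroup.eq_one_iff _).2 ?_
        rw [hN, mem_subgroupOf, hYc]
        exact pow_mem (mem_zpowers y) _⟩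
      have hg : Function.Bijective g := by
        refine ⟨fun a b h => ?_, fun x => ?_⟩
        · have h' : y ^ a.val = y ^ b.val := congrArg (fun t : mK.ker => ((t : Kc T) : G)) h
          have hord : orderOf y = 3 := by
            haveI : Fact (Nat.Prime 3) := ⟨Nat.prime_three⟩
            exact orderOf_eq_prime T.three T.ne_one
          exact Fin.ext (pow_injOn_Iio_orderOf (by rw [hord]; exact a.isLt) (by rw [hord]; exact b.isLt) h')
        · obtain ⟨e, he⟩ := hmk 1 (incl x.1) (by rw [map_one]; exact x.2.symm)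
          refine ⟨e, Subtype.ext (Subtype.ext ?_)⟩
          show y ^ e.val = ((x.1 : Kc T) : G)
          simpa [incl] using he.symm
      rw [← Nat.card_congr (Equiv.ofBijective g hg), Nat.card_fin]
    rw [hk] at h1
    omega
  obtain ⟨ψ, P⟩ := T.exists_psi
  let ψK : SL × SL →* Kc T := ψ.codRestrict _ P.mem
  let φ : SL × SL →* X ⧸ N := mK.comp ψK
  have hφ : ∀ p, φ p = mk (incl ⟨ψ p, P.mem p⟩) := fun p => rfl
  have hqqK : ∀ {p : SL × SL}, p ∈ qq → (ψ p) ^ 128 = 1 := fun hp => pow_Q (P.qmem _ hp)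
  have hpowQ : ∀ e : Fin 3, y ^ e.val ∈ D.Q → e = 0 := by
    intro e h
    refine el_small.2.1 e ?_
    have h1 := actG_Q D h
    rw [act_ypow T] at h1
    have h2 := oW_apply (el_small.2.2 e) (n := 16) (by norm_num)
    rw [h1] at h2
    exact (vec_inj (by norm_num) (aN_lt (el_small.2.2 e) (by norm_num)) h2).symm
  have hkerφ : ∀ p, φ p = 1 ↔ p = 1 ∨ p = (j₀, j₀) := by
    intro p
    rw [← P.ker]
    constructor
    · intro h
      obtain ⟨e, he⟩ := hmk 1 (incl ⟨ψ p, P.mem p⟩) (by rw [map_one]; exact h.symm)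
      obtain ⟨e₁, e₂, hr⟩ := P.racts p
      have he' : ψ p = y ^ e.val := by simpa [incl] using he
      have h1 := act_ypow T e.val
      rw [← he', hr] at h1
      have h2 := oW_apply (r12_facts.1 e₁ e₂).1 (n := 16) (by norm_num)
      rw [h1, oW_apply (el_small.2.2 e) (by norm_num), (r12_facts.1 e₁ e₂).2] at h2
      rw [el_small.2.1 e (vec_inj (aN_lt (el_small.2.2 e) (by norm_num)) (by norm_num) h2)] at he'
      simpa using he'
    · intro h
      rw [hφ, show (⟨ψ p, P.mem p⟩ : Kc T) = 1 from Subtype.ext h, map_one, map_one]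
  have hPair : Pair zb φ := by
    refine ⟨hzord, hcardC, fun p => ?_, hkerφ, ?_, ?_, ?_, ?_, ?_, ?_⟩
    · rw [← hrangeK]; exact ⟨_, rfl⟩
    · exact congrArg mk (Subtype.ext P.zeq)
    · intro g hg p
      rw [← hrangeK] at hg
      obtain ⟨x, rfl⟩ := hg
      obtain ⟨i, hi⟩ := T.act_el x.2
      obtain ⟨e₁, e₂, hr⟩ := P.racts p
      obtain ⟨f₁, f₂, hf⟩ := r12_facts.2.1 i e₁ e₂
      have hxC := ((mem_Kc T).1 x.2).1
      have hpC := ((mem_Kc T).1 (P.mem p)).1
      have hk : (x : G) * ψ p * (x : G)⁻¹ ∈ ψ.range := by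
        refine P.rsurj _ (mul_mem (mul_mem x.2 (P.mem p)) (inv_mem x.2)) ⟨f₁, f₂, ?_⟩
        rw [actG_mul D (mul_mem hxC hpC) (inv_mem hxC), actG_mul D hxC hpC, actG_inv D hxC, hi, hr,
          mul_inv_eq_iff_eq_mul, ← oW_append, ← oW_append]
        exact oW_eq (by rw [okL_append, (el_facts i).1, (r12_facts.1 e₁ e₂).1]; rfl)
          (by rw [okL_append, (el_facts i).1, (r12_facts.1 f₁ f₂).1]; rfl) hf
      obtain ⟨q, hq⟩ := hk
      refine ⟨q, ?_⟩
      show mK (ψK q) = mK x * mK (ψK p) * (mK x)⁻¹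
      rw [← map_inv, ← map_mul, ← map_mul]
      exact congrArg mK (Subtype.ext hq)
    · intro g hg p hp
      rw [← hrangeK] at hg
      obtain ⟨x, rfl⟩ := hg
      obtain ⟨q, hq, hq'⟩ := P.qsurj _ (conj_mem_Q D ((mem_Kc T).1 x.2).1 (P.qmem p hp))
        (mul_mem (mul_mem x.2 (P.mem p)) (inv_mem x.2))
      refine ⟨q, hq, ?_⟩
      show mK (ψK q) = mK x * mK (ψK p) * (mK x)⁻¹
      rw [← map_inv, ← map_mul, ← map_mul]
      exact congrArg mK (Subtype.ext hq')
    · intro g hg hc
      rw [← hrangeK] at hg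
      obtain ⟨x, rfl⟩ := hg
      have hxC := ((mem_Kc T).1 x.2).1
      have hxc : ∀ p ∈ qq, (x : G) * ψ p = ψ p * x := by
        intro p hp
        have h1 : mK (x * ψK p * x⁻¹ * (ψK p)⁻¹) = 1 := by
          have := hc p hp
          rw [map_mul, map_mul, map_mul, map_inv, map_inv]
          rw [show mK x * mK (ψK p) = mK (ψK p) * mK x from this]
          group
        obtain ⟨e, he⟩ := hmk 1 (incl (x * ψK p * x⁻¹ * (ψK p)⁻¹)) (by rw [map_one]; exact h1.symm)
        have he' : (x : G) * ψ p * (x : G)⁻¹ * (ψ p)⁻¹ = y ^ e.val := by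
          simpa [incl, ψK] using he
        have hQ : y ^ e.val ∈ D.Q := he' ▸
          mul_mem (conj_mem_Q D hxC (P.qmem p hp)) (inv_mem (P.qmem p hp))
        rw [hpowQ e hQ, Fin.val_zero, pow_zero, mul_inv_eq_one, mul_inv_eq_iff_eq_mul] at he'
        exact he'
      obtain ⟨i, hi⟩ := T.act_el x.2
      have hi3 : i.val < 3 := by
        refine r12_facts.2.2 i fun b hb => ?_
        have hb64 : b < 64 := (by decide : ∀ b ∈ ([5, 11, 7, 10] : List ℕ), b < 64) b hb
        have hb16 : b < 16 := (by decide : ∀ b ∈ ([5, 11, 7, 10] : List ℕ), b < 16) b hb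
        obtain ⟨q, hq, eq⟩ := D.π_surj (vec b)
        obtain ⟨p, hp, rfl⟩ := P.qsurj q hq ((T.fixed_lt hq hb64 eq).2 hb16)
        refine vec_inj (aN_lt (el_facts i).1 hb64) hb64 ?_
        rw [← oW_apply (el_facts i).1 hb64, ← hi, ← eq, ← actG_π D hxC hq, hxc p hp, mul_inv_cancel_right]
      have hxy : (x : G) * (y ^ i.val)⁻¹ ∈ D.Q := by
        refine mem_Q_of_act_eq D hxC (pow_mem T.mem _) ?_
        rw [hi, act_ypow T, ← el_small.1 ⟨i.val, hi3⟩]
      obtain ⟨p, hp, hp'⟩ := P.qsurj _ hxy (mul_mem x.2 (inv_mem (pow_mem T.y_Kc _)))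
      refine ⟨p, hp, ?_⟩
      rw [hφ]
      refine QuotientGroup.eq.2 ?_
      rw [hN, mem_subgroupOf, hYc]
      show (ψ p)⁻¹ * (x : G) ∈ zpowers y
      rw [hp', mul_inv_rev, inv_inv, inv_mul_cancel_right]
      exact pow_mem (mem_zpowers y) _
    · obtain ⟨k, hky, hkQ, hkne⟩ := T.fuse
      have hK : k * z * k⁻¹ ∈ Kc T := (mem_Kc T).2 ⟨SuzInvol.mem_C D hkQ,
        (((show Commute k y from hky).mul_left (show Commute z y from hzy)).mul_left
          (show Commute k y from hky).inv_left).eq⟩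
      refine ⟨mk ⟨k, (hX k).2 hky⟩, ?_, ?_⟩
      · obtain ⟨p, hp, hp'⟩ := P.qsurj _ hkQ hK
        refine ⟨p, hp, ?_⟩
        rw [hφ, hzb, ← map_inv, ← map_mul, ← map_mul]
        exact congrArg mk (Subtype.ext hp')
      · intro h
        rw [hzb, ← map_inv, ← map_mul, ← map_mul] at h
        obtain ⟨e, he⟩ := hmk _ _ h.symm
        exact hkne (pow_two_part T (pow_Q hkQ) z128 hzy he)
    · intro g hgQ hgne
      obtain ⟨x, rfl⟩ := QuotientGroup.mk'_surjective N g
      obtain ⟨p, hp, hpe⟩ := hgQ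
      have hxy : (x : G) * y = y * x := (hX _).1 x.2
      have hpe' : mk (incl ⟨ψ p, P.mem p⟩) = mk (x * zX * x⁻¹) := by
        rw [← hφ, hpe, map_mul, map_mul, map_inv, hzb]
      obtain ⟨e, he⟩ := hmk _ _ hpe'
      have hs : (x : G) * z * (x : G)⁻¹ = ψ p := pow_two_part T (by rw [conj_pow, z128]; group) (hqqK hp)
        ((mem_Kc T).1 (P.mem p)).2 (e := e.val) he
      set s := ψ p with hsdef
      have hsQ : s ∈ D.Q := P.qmem p hp
      have hne : (x : G) * z * (x : G)⁻¹ ≠ z := by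
        intro h
        refine hgne ?_
        show mk x * mk zX * (mk x)⁻¹ = mk zX
        rw [← map_inv, ← map_mul, ← map_mul]
        exact congrArg mk (Subtype.ext h)
      have hs1 : s ≠ 1 := fun h => D.pre.gen.ne_one (conj_eq_one_iff.1 (hs.trans h))
      have hsz : s ≠ z := fun h => hne (hs.trans h)
      have hs2 : s * s = 1 := by
        rw [← hs, show (x : G) * z * (x : G)⁻¹ * ((x : G) * z * (x : G)⁻¹) = x * (z * z) * (x : G)⁻¹ by group, zz]
        group
      have hsπ : D.π s ≠ 0 := fun h => ((D.π_eq_zero s hsQ).1 h).elim hs1 hsz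
      obtain ⟨g₀, hg₀, hg₀ne⟩ := T.nwc
      obtain ⟨B⟩ := exists_base D hg₀ hg₀ne
      obtain ⟨c, hc, hcs⟩ := exists_conj_C D hsQ B.sQ ((D.sq_iff s hsQ).1 hs2) (by rw [B.πs]; exact q_e0) hsπ
        (by rw [B.πs]; exact base_facts.2.2.2)
      have hcz : c * z * c⁻¹ = z := by rw [mem_centralizer_singleton_iff.1 hc, mul_inv_cancel_right]
      have hcong : conjQ D (c * x) = conjQ D B.g := conjQ_congr D (by
        rw [B.gz, ← hcs, ← hs]; group)
      have hmeet : ∀ a : G, a ∈ D.Q → (x : G)⁻¹ * a * x ∈ D.Q → a = 1 ∨ a = z ∨ a = s ∨ a = z * s := by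
        intro a ha ha'
        have h1 : c * a * c⁻¹ ∈ conjQ D (c * x) := (mem_conjQ D).2 (by
          rw [show (c * (x : G))⁻¹ * (c * a * c⁻¹) * (c * x) = (x : G)⁻¹ * a * x by group]; exact ha')
        rw [hcong] at h1
        have back : ∀ {t : G}, c * a * c⁻¹ = c * t * c⁻¹ → a = t := fun h => mul_left_cancel (mul_right_cancel h)
        rcases B.inV_cases (B.meet (conj_mem_Q D hc ha) h1) with e | e | e | e
        · exact Or.inl (conj_eq_one_iff.1 e)
        · exact Or.inr (Or.inl (back (e.trans hcz.symm)))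
        · exact Or.inr (Or.inr (Or.inl (back (e.trans hcs.symm))))
        · refine Or.inr (Or.inr (Or.inr (back (e.trans ?_))))
          calc z * B.s = (c * z * c⁻¹) * (c * s * c⁻¹) := by rw [hcz, hcs]
            _ = _ := by group
      have hzx : (x : G)⁻¹ * z * x ∈ D.Q :=
        (mem_conjQ D).1 (mem_conjQ_self D (k := (x : G)) (by rw [hs]; exact hsQ))
      have hsx : (x : G)⁻¹ * s * x = z := by rw [← hs]; group
      have hsK : s ∈ Kc T := P.mem p
      have hzK : z ∈ Kc T := (mem_Kc T).2 ⟨mem_centralizer_singleton_iff.2 rfl, hzy⟩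
      let four : Fin 4 → Kc T := fun j =>
        ([1, ⟨z, hzK⟩, ⟨s, hsK⟩, ⟨z * s, mul_mem hzK hsK⟩] : List (Kc T)).getD j.val 1
      have hfour : ∀ j, (four j : G) ∈ D.Q ∧ (x : G)⁻¹ * (four j : G) * x ∈ D.Q := by
        intro j
        fin_cases j
        · exact ⟨one_mem _, by simp [four, one_mem]⟩
        · exact ⟨D.pre.gen.mem, hzx⟩
        · exact ⟨hsQ, by show (x : G)⁻¹ * s * x ∈ D.Q; rw [hsx]; exact D.pre.gen.mem⟩
        · refine ⟨mul_mem D.pre.gen.mem hsQ, ?_⟩
          show (x : G)⁻¹ * (z * s) * x ∈ D.Q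
          rw [show (x : G)⁻¹ * (z * s) * x = ((x : G)⁻¹ * z * x) * ((x : G)⁻¹ * s * x) by group, hsx]
          exact mul_mem hzx D.pre.gen.mem
      set I := qq.map φ ⊓ (qq.map φ).map (MulAut.conj (mk x)).toMonoidHom with hI
      have hxK : ∀ j, (⟨(x : G)⁻¹ * (four j : G) * x, (hfour j).2⟩ : D.Q).1 ∈ Kc T := fun j =>
        (mem_Kc T).2 ⟨SuzInvol.mem_C D (hfour j).2,
          (((show Commute (x : G) y from hxy).inv_left.mul_left
            (show Commute (four j : G) y from ((mem_Kc T).1 (four j).2).2)).mul_left (show Commute (x : G) y from hxy)).eq⟩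
      have hin : ∀ j, mK (four j) ∈ I := by
        intro j
        obtain ⟨p₁, hp₁, hp₁'⟩ := P.qsurj _ (hfour j).1 (four j).2
        obtain ⟨p₂, hp₂, hp₂'⟩ := P.qsurj _ (hfour j).2 (hxK j)
        refine ⟨⟨p₁, hp₁, congrArg mK (Subtype.ext hp₁')⟩, ⟨φ p₂, ⟨p₂, hp₂, rfl⟩, ?_⟩⟩
        show mk x * φ p₂ * (mk x)⁻¹ = mk (incl (four j))
        rw [hφ, ← map_inv, ← map_mul, ← map_mul]
        refine congrArg mk (Subtype.ext ?_)
        show (x : G) * ψ p₂ * (x : G)⁻¹ = (four j : G)
        rw [hp₂']; group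
      let F4 : Fin 4 → I := fun j => ⟨mK (four j), hin j⟩
      have hbij : Function.Bijective F4 := by
        constructor
        · intro i j h
          obtain ⟨e, he⟩ := hmk (incl (four i)) (incl (four j)) (congrArg Subtype.val h)
          have h' : (four j : G) = four i := pow_two_part T (pow_Q (hfour j).1) (pow_Q (hfour i).1)
            ((mem_Kc T).1 (four i).2).2 he
          have n4 : z * s ≠ 1 := fun e => hsz (by
            rw [eq_inv_of_mul_eq_one_right e]; exact inv_eq_of_mul_eq_one_right zz)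
          have n5 : z * s ≠ z := fun e => hs1 (mul_eq_left.1 e)
          have n6 : z * s ≠ s := fun e => D.pre.gen.ne_one (mul_eq_right.1 e)
          have n1 := D.pre.gen.ne_one
          fin_cases i <;> fin_cases j <;> first | rfl | (exfalso; simp [four, n1, hs1, hsz, n4, n5, n6, n1.symm,
            hs1.symm, hsz.symm, n4.symm, n5.symm, n6.symm] at h')
        · rintro ⟨t, ⟨p₁, hp₁, rfl⟩, ⟨t', ⟨p₂, hp₂, rfl⟩, ht⟩⟩
          have ht' : mk x * φ p₂ * (mk x)⁻¹ = φ p₁ := ht
          rw [hφ, hφ, ← map_inv, ← map_mul, ← map_mul] at ht'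
          obtain ⟨e, he⟩ := hmk _ _ ht'.symm
          have hab : (x : G) * ψ p₂ * (x : G)⁻¹ = ψ p₁ := pow_two_part T (by rw [conj_pow, hqqK hp₂]; group)
            (hqqK hp₁) ((mem_Kc T).1 (P.mem p₁)).2 (e := e.val) he
          obtain ⟨j, hj⟩ : ∃ j, (four j : G) = ψ p₁ := by
            rcases hmeet (ψ p₁) (P.qmem _ hp₁) (by
              rw [← hab]; simpa [mul_assoc] using P.qmem _ hp₂) with e | e | e | e
            · exact ⟨0, e.symm⟩
            · exact ⟨1, e.symm⟩
            · exact ⟨2, e.symm⟩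
            · exact ⟨3, e.symm⟩
          exact ⟨j, Subtype.ext (congrArg mK (Subtype.ext hj))⟩
      rw [← Nat.card_congr (Equiv.ofBijective F4 hbij), Nat.card_fin]
  exact ⟨ψ, P, fun p => (hX _).2 ((mem_Kc T).1 (P.mem p)).2, zX.2, hPair⟩

end CfsgLib.SuzThree
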