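import Cfsg.Agent.SuzThree.Gens

/-!
The two commuting copies of `SL(2,3)` inside the centraliser of the element of order three.
-/

set_option autoImplicit false
set_option linter.style.haveILetI false
set_option maxRecDepth 100000

namespace CfsgLib.SuzThree

open CfsgLib CfsgLib.Quad CfsgLib.SuzInvol CfsgLib.U43Type Subgroup

/-- The products of the second and third rotations. -/
def r12 (e₁ e₂ : ℕ) : List ℕ := (List.replicate e₁ w1).flatten ++ (List.replicate e₂ w2).flatten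

theorem r12_facts : (∀ e₁ e₂ : Fin 3, okL (r12 e₁.val e₂.val) = true ∧ aN (r12 e₁.val e₂.val) 16 = 16) ∧
    (∀ i : Fin 108, ∀ e₁ e₂ : Fin 3, ∃ f₁ f₂ : Fin 3,
      sameW (el i.val ++ r12 e₁.val e₂.val) (r12 f₁.val f₂.val ++ el i.val) = true) ∧
    (∀ i : Fin 108, (∀ b ∈ ([5, 11, 7, 10] : List ℕ), aN (el i.val) b = b) → i.val < 3) := by
  decide +kernel

theorem w_facts : aN w1 5 = 11 ∧ aN w1 11 = 5 ^^^ 11 ∧ aN w2 7 = 10 ∧ aN w2 10 = 7 ^^^ 10 ∧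
    aN w2 5 = 5 ∧ aN w0 5 = 5 ∧ aN w1 7 = 7 ∧ bN 5 7 = false ∧
    sameW (w1 ++ w1 ++ w1) [] = true ∧ sameW (w2 ++ w2 ++ w2) [] = true ∧
    sameW (w1 ++ w0) (w0 ++ w1) = true ∧ sameW (w2 ++ w0) (w0 ++ w2) = true ∧
    sameW (w2 ++ w1) (w1 ++ w2) = true ∧ qN 5 = true ∧ qN 7 = true ∧ bN 5 11 = true ∧ bN 7 10 = true := by
  decide +kernel

theorem sl_detect : ∀ A : SL, A ≠ 1 → A = j₀ ∨ ∃ B : SL, A * B * A⁻¹ * B⁻¹ = j₀ ∨
    A * B * A⁻¹ * B⁻¹ * (A * B * A⁻¹ * B⁻¹) = j₀ := by decide +kernel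

theorem sl_center : ∀ A : SL, (∀ C : SL, A * C = C * A) → A = 1 ∨ A = j₀ := by decide +kernel

variable {G : Type*} [Group G] [Finite G] {z : G} {D : Dat z} {y : G}

/-- The image of an element is a product of the two rotations. -/
def R12 (g : O6) : Prop := ∃ e₁ e₂ : Fin 3, g = oW (r12 e₁.val e₂.val)

theorem oW_flatten (w : List ℕ) : ∀ n : ℕ, oW (List.replicate n w).flatten = oW w ^ n
  | 0 => rfl
  | n + 1 => by rw [List.replicate_succ, List.flatten_cons, oW_append, oW_flatten w n, pow_succ']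

theorem oW_r12 (a b : ℕ) : oW (r12 a b) = oW w1 ^ a * oW w2 ^ b := by
  rw [r12, oW_append, oW_flatten, oW_flatten]

/-- The two copies of `SL(2,3)`. -/
structure Psi (T : Three D y) (ψ : SL × SL →* G) : Prop where
  mem : ∀ p, ψ p ∈ Kc T
  ker : ∀ p, ψ p = 1 ↔ p = 1 ∨ p = (j₀, j₀)
  zeq : ψ (j₀, 1) = z
  hact : actG D (ψ (h₀, 1)) = oW w1
  hcube : ψ (h₀, 1) ^ 3 = 1
  qmem : ∀ p ∈ qq, ψ p ∈ D.Q
  qsurj : ∀ q ∈ D.Q, q ∈ Kc T → ∃ p ∈ qq, ψ p = q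
  racts : ∀ p, R12 (actG D (ψ p))
  rsurj : ∀ x ∈ Kc T, R12 (actG D x) → x ∈ ψ.range

set_option maxHeartbeats 1000000 in
/-- The two copies exist. -/
theorem Three.exists_psi (T : Three D y) : ∃ ψ : SL × SL →* G, Psi T ψ := by
  obtain ⟨fa, fb, fc, fd, fe, ff, fg, fh, c1, c2, k1, k2, k3, g5, g7, b5, b7⟩ := w_facts
  obtain ⟨h₁, q₁, f₁, h₁3, h₁K, h₁y, h₁a, q₁Q, q₁K, -, q₁π, hf₁, q₁2⟩ :=
    T.exists_factor T.mem T.three rfl okL_small.2.1 rfl (u := 5) (u' := 11) (by norm_num) (by norm_num)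
      g5 b5 fa fb c1 k1
      (by
        rw [T.act, ← oW_append, ← oW_append]
        exact oW_eq (by decide +kernel) (by decide +kernel) k1)
      (by rw [T.act, oW_apply okL_small.1 (by norm_num), ff])
  have h₁C := ((mem_Kc T).1 h₁K).1
  obtain ⟨h₂, q₂, f₂, h₂3, h₂K, h₂h₁, h₂a, q₂Q, q₂K, q₂h₁, q₂π, hf₂, q₂2⟩ :=
    T.exists_factor h₁C h₁3 ((mem_Kc T).1 h₁K).2 okL_small.2.2.1 rfl (u := 7) (u' := 10)
      (by norm_num) (by norm_num) g7 b7 fc fd c2 k2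
      (by
        rw [h₁a, ← oW_append, ← oW_append]
        exact oW_eq (by decide +kernel) (by decide +kernel) k3)
      (by rw [h₁a, oW_apply okL_small.2.1 (by norm_num), fg])
  have h₂C := ((mem_Kc T).1 h₂K).1
  have cqq : Commute q₁ q₂ := (D.comm_iff _ q₁Q _ q₂Q).2 (by
    rw [q₁π, q₂π, bf_vec ⟨5, by norm_num⟩ ⟨7, by norm_num⟩, fh]; rfl)
  have cq₁h₂ : Commute q₁ h₂ := (comm_of_fixed D h₂C h₂3 q₁Q (by
    rw [h₂a, q₁π, oW_apply okL_small.2.2.1 (by norm_num), fe])).symm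
  have cq₂h₁ : Commute h₁ q₂ := q₂h₁.symm
  have chh : Commute h₁ h₂ := h₂h₁.symm
  have hcomm : ∀ A B, Commute (f₁ A) (f₂ B) := by
    intro A B
    obtain ⟨⟨i, j, k⟩, rfl⟩ := slE_bij.1 A
    obtain ⟨⟨i', j', k'⟩, rfl⟩ := slE_bij.1 B
    rw [hf₁, hf₂]
    have r1 : ∀ x, Commute q₁ x → Commute h₁ x →
        Commute (q₁ ^ i.val * (h₁ * q₁ * h₁⁻¹) ^ j.val * h₁ ^ k.val) x := fun x a b =>
      (((a.pow_left _).mul_left (((b.mul_left a).mul_left b.inv_left).pow_left _)).mul_left (b.pow_left _))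
    refine r1 _ ?_ ?_
    · exact ((cqq.pow_right _).mul_right (((cq₁h₂.mul_right cqq).mul_right cq₁h₂.inv_right).pow_right _)).mul_right
        (cq₁h₂.pow_right _)
    · exact ((cq₂h₁.pow_right _).mul_right (((chh.mul_right cq₂h₁).mul_right chh.inv_right).pow_right _)).mul_right
        (chh.pow_right _)
  have ea : ∀ {f : SL →* G} {q h : G}, (∀ i : Fin 4, ∀ j : Fin 2, ∀ k : Fin 3,
      f (slE (i, j, k)) = q ^ i.val * (h * q * h⁻¹) ^ j.val * h ^ k.val) →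
      f aS = q ∧ f h₀ = h ∧ f j₀ = q ^ 2 ∧ f bS = h * q * h⁻¹ := fun {f q h} hf => by
    have a1 := hf 1 0 0
    have a2 := hf 0 0 1
    have a3 := hf 2 0 0
    rw [slE_facts.1] at a1
    rw [slE_facts.2.1] at a2
    rw [slE_facts.2.2.1] at a3
    refine ⟨by simpa using a1, by simpa using a2, by simpa using a3, ?_⟩
    rw [bS, map_mul, map_mul, map_inv, show f h₀ = h by simpa using a2, show f aS = q by simpa using a1]
  obtain ⟨a₁e, h₁e, j₁e, -⟩ := ea hf₁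
  obtain ⟨a₂e, h₂e, j₂e, -⟩ := ea hf₂
  rw [q₁2] at j₁e
  rw [q₂2] at j₂e
  set ψ := MonoidHom.noncommCoprod f₁ f₂ hcomm with hψ
  have hψe : ∀ A B, ψ (A, B) = f₁ A * f₂ B := fun A B => MonoidHom.noncommCoprod_apply f₁ f₂ hcomm (A, B)
  have hK : ∀ p, ψ p ∈ Kc T := by
    rintro ⟨A, B⟩
    obtain ⟨⟨i, j, k⟩, rfl⟩ := slE_bij.1 A
    obtain ⟨⟨i', j', k'⟩, rfl⟩ := slE_bij.1 B
    rw [hψe, hf₁, hf₂]
    exact mul_mem
      (mul_mem (mul_mem (pow_mem q₁K _) (pow_mem (mul_mem (mul_mem h₁K q₁K) (inv_mem h₁K)) _)) (pow_mem h₁K _))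
      (mul_mem (mul_mem (pow_mem q₂K _) (pow_mem (mul_mem (mul_mem h₂K q₂K) (inv_mem h₂K)) _)) (pow_mem h₂K _))
  have hC : ∀ p, ψ p ∈ centralizer ({z} : Set G) := fun p => ((mem_Kc T).1 (hK p)).1
  have hQ : ∀ i j i' j', ψ (slE (i, j, 0), slE (i', j', 0)) ∈ D.Q := fun i j i' j' => by
    rw [hψe, hf₁, hf₂]
    simp only [Fin.val_zero, pow_zero, mul_one]
    exact mul_mem (mul_mem (pow_mem q₁Q _) (pow_mem (conj_mem_Q D h₁C q₁Q) _))
      (mul_mem (pow_mem q₂Q _) (pow_mem (conj_mem_Q D h₂C q₂Q) _))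
  have hh₁ : ψ (h₀, 1) = h₁ := by rw [hψe, h₁e, map_one, mul_one]
  have hh₂ : ψ (1, h₀) = h₂ := by rw [hψe, h₂e, map_one, one_mul]
  have hz1 : ψ (j₀, 1) = z := by rw [hψe, j₁e, map_one, mul_one]
  have hz2 : ψ (1, j₀) = z := by rw [hψe, j₂e, map_one, one_mul]
  have qz : ∀ p ∈ qq, ψ p ∈ D.Q := by
    rintro ⟨A, B⟩ hp
    obtain ⟨⟨i, j, k⟩, rfl⟩ := slE_bij.1 A
    obtain ⟨⟨i', j', k'⟩, rfl⟩ := slE_bij.1 B
    rw [qq, mem_prod, slE_facts.2.2.2.1, slE_facts.2.2.2.1] at hp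
    obtain ⟨rfl : k = 0, rfl : k' = 0⟩ := hp
    exact hQ i j i' j'
  have qsurj : ∀ q ∈ D.Q, q ∈ Kc T → ∃ p ∈ qq, ψ p = q := by
    intro q hq hqK
    obtain ⟨n, hn, e⟩ := exists_code (D.π q)
    obtain ⟨i, j, k, l, hijkl⟩ := fixed_codes.2.2 ⟨n, (T.fixed_lt hq hn e.symm).1 hqK⟩
    simp only at hijkl
    set p : SL × SL := (slE (i.castLE (by norm_num), j, 0), slE (k.castLE (by norm_num), l, 0)) with hp
    have hpq : p ∈ qq := mem_prod.2 ⟨(slE_facts.2.2.2.1 _).2 rfl, (slE_facts.2.2.2.1 _).2 rfl⟩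
    have hπp : D.π (ψ p) = vec n := by
      rw [hp, hψe, hf₁, hf₂]
      simp only [Fin.val_zero, pow_zero, mul_one, Fin.val_castLE]
      have q1' : h₁ * q₁ * h₁⁻¹ ∈ D.Q := conj_mem_Q D h₁C q₁Q
      have q2' : h₂ * q₂ * h₂⁻¹ ∈ D.Q := conj_mem_Q D h₂C q₂Q
      rw [D.π_mul _ (mul_mem (pow_mem q₁Q _) (pow_mem q1' _)) _ (mul_mem (pow_mem q₂Q _) (pow_mem q2' _)),
        D.π_mul _ (pow_mem q₁Q _) _ (pow_mem q1' _), D.π_mul _ (pow_mem q₂Q _) _ (pow_mem q2' _)]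
      have e11 : D.π (h₁ * q₁ * h₁⁻¹) = vec 11 := by
        rw [actG_π D h₁C q₁Q, h₁a, q₁π, oW_apply okL_small.2.1 (by norm_num), fa]
      have e10 : D.π (h₂ * q₂ * h₂⁻¹) = vec 10 := by
        rw [actG_π D h₂C q₂Q, h₂a, q₂π, oW_apply okL_small.2.2.1 (by norm_num), fc]
      have hp2 : ∀ (x : G) (c : ℕ), D.π x = vec c → ∀ e : Fin 2,
          D.π (x ^ e.val) = vec (if e = 1 then c else 0) := by
        intro x c hx e
        fin_cases e
        · simp only [pow_zero]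
          rw [π_one, if_neg (by decide)]
          decide +kernel
        · simpa using hx
      rw [hp2 _ _ q₁π, hp2 _ _ e11, hp2 _ _ q₂π, hp2 _ _ e10, hijkl]
      have key : ∀ i j k l : Fin 2, vec (if i = 1 then 5 else 0) + vec (if j = 1 then 11 else 0) +
          (vec (if k = 1 then 7 else 0) + vec (if l = 1 then 10 else 0)) =
          vec ((if i = 1 then 5 else 0) ^^^ (if j = 1 then 11 else 0) ^^^ (if k = 1 then 7 else 0) ^^^
            (if l = 1 then 10 else 0)) := by decide +kernel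
      exact key i j k l
    rcases eq_of_π D (qz p hpq) hq (hπp.trans e) with e' | e'
    · exact ⟨p, hpq, e'.symm⟩
    · have hj : ((j₀, 1) : SL × SL) ∈ qq := mem_prod.2 ⟨mem_q8.2 (by decide +kernel), one_mem _⟩
      exact ⟨p * (j₀, 1), mul_mem hpq hj, by rw [map_mul, hz1, e']⟩
  have racts : ∀ p, R12 (actG D (ψ p)) := by
    rintro ⟨A, B⟩
    obtain ⟨⟨i, j, k⟩, rfl⟩ := slE_bij.1 A
    obtain ⟨⟨i', j', k'⟩, rfl⟩ := slE_bij.1 B
    refine ⟨k, k', ?_⟩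
    have e0 : (slE (i, j, k), slE (i', j', k')) =
        ((slE (i, j, 0), slE (i', j', 0)) : SL × SL) * ((h₀, 1) ^ k.val * (1, h₀) ^ k'.val) := by
      simp [slE]
    rw [e0, map_mul, map_mul, map_pow, map_pow, hh₁, hh₂,
      actG_mul D (hC _) (mul_mem (pow_mem h₁C _) (pow_mem h₂C _)), actG_mul D (pow_mem h₁C _) (pow_mem h₂C _),
      actG_Q D (hQ i j i' j'), one_mul, actG_pow D h₁C, actG_pow D h₂C, h₁a, h₂a, oW_r12]
  refine ⟨ψ, hK, ?_, hz1, by rw [hh₁, h₁a], by rw [hh₁, h₁3], qz, qsurj, racts, ?_⟩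
  · have inj : ∀ f : SL →* G, f j₀ = z → ∀ A, f A = 1 → A = 1 := by
      intro f hj A hA
      by_contra h
      rcases sl_detect A h with rfl | ⟨B, e | e⟩
      · exact D.pre.gen.ne_one (hj.symm.trans hA)
      · exact D.pre.gen.ne_one (by rw [← hj, ← e]; simp [hA])
      · exact D.pre.gen.ne_one (by rw [← hj, ← e]; simp [hA])
    rintro ⟨A, B⟩
    constructor
    · intro h
      rw [hψe] at h
      have hcen : ∀ C : SL, A * C = C * A := fun C => by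
        have e : f₁ A = (f₂ B)⁻¹ := eq_inv_of_mul_eq_one_left h
        have := inj f₁ j₁e (A * C * A⁻¹ * C⁻¹) (by
          rw [map_mul, map_mul, map_mul, map_inv, map_inv, e, inv_inv,
            show (f₂ B)⁻¹ * f₁ C * f₂ B = f₁ C by rw [mul_assoc, (hcomm C B).eq, inv_mul_cancel_left],
            mul_inv_cancel])
        exact mul_inv_eq_iff_eq_mul.1 (mul_inv_eq_one.1 this)
      rcases sl_center A hcen with rfl | rfl
      · rw [map_one, one_mul] at h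
        exact Or.inl (Prod.ext rfl (inj f₂ j₂e B h))
      · rw [j₁e] at h
        right
        refine Prod.ext rfl (mul_inv_eq_one.1 (inj f₂ j₂e (B * j₀⁻¹) ?_))
        rw [map_mul, map_inv, j₂e, eq_inv_of_mul_eq_one_right h]
        rw [show z⁻¹ = z from inv_eq_of_mul_eq_one_right D.pre.gen.sq, D.pre.gen.sq]
    · rintro (e | e) <;> rw [e]
      · exact map_one ψ
      · rw [hψe, j₁e, j₂e, D.pre.gen.sq]
  · rintro x hx ⟨e₁, e₂, he⟩
    set m := (((h₀, 1) : SL × SL) ^ e₁.val * (1, h₀) ^ e₂.val) with hm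
    have hma : actG D (ψ m) = oW (r12 e₁.val e₂.val) := by
      rw [hm, map_mul, map_pow, map_pow, hh₁, hh₂, actG_mul D (pow_mem h₁C _) (pow_mem h₂C _),
        actG_pow D h₁C, actG_pow D h₂C, h₁a, h₂a, oW_r12]
    have hxm := mem_Q_of_act_eq D ((mem_Kc T).1 hx).1 (hC m) (he.trans hma.symm)
    obtain ⟨p, -, hp⟩ := qsurj _ hxm (mul_mem hx (inv_mem (hK m)))
    exact ⟨p * m, by rw [map_mul, hp, inv_mul_cancel_right]⟩

end CfsgLib.SuzThree
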