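import Cfsg.Agent.SuzThree.Lift
import Cfsg.Agent.U43Type.Pair
import Mathlib.GroupTheory.NoncommCoprod

/-!
The centraliser of an element of order three in the centraliser of the central involution.
-/

set_option autoImplicit false
set_option linter.style.haveILetI false
set_option maxRecDepth 100000

namespace CfsgLib.SuzThree

open CfsgLib CfsgLib.Quad CfsgLib.SuzInvol CfsgLib.U43Type Subgroup

/-- A quaternion generator adapted to the element of order three. -/
def aS : SL :=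
  if h₀ * (h₀ * a₀ * h₀⁻¹) * h₀⁻¹ = a₀ * (h₀ * a₀ * h₀⁻¹) then a₀ else a₀⁻¹

/-- Its conjugate. -/
def bS : SL := h₀ * aS * h₀⁻¹

/-- The normal form. -/
def slE (t : Fin 4 × Fin 2 × Fin 3) : SL := aS ^ t.1.val * bS ^ t.2.1.val * h₀ ^ t.2.2.val

/-- Right multiplication by the quaternion generator on normal forms. -/
def stepA (t : Fin 4 × Fin 2 × Fin 3) : Fin 4 × Fin 2 × Fin 3 :=
  match t.2.1.val, t.2.2.val with
  | 0, 0 => (t.1 + 1, 0, 0)
  | 0, 1 => (t.1, 1, 1)
  | 0, _ => (t.1 + 1, 1, 2)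
  | _, 0 => (t.1 + 3, 1, 0)
  | _, 1 => (t.1 + 2, 0, 1)
  | _, _ => (t.1 + 1, 0, 2)

theorem slE_bij : (∀ A : SL, ∃ t, slE t = A) ∧ (∀ t t', slE t = slE t' → t = t') := by decide +kernel

theorem slE_step : (∀ t, slE t * aS = slE (stepA t)) ∧
    (∀ t : Fin 4 × Fin 2 × Fin 3, slE t * h₀ = slE (t.1, t.2.1, t.2.2 + 1)) ∧ slE (0, 0, 0) = 1 := by
  decide +kernel

theorem slE_facts : slE (1, 0, 0) = aS ∧ slE (0, 0, 1) = h₀ ∧ slE (2, 0, 0) = j₀ ∧
    (∀ t : Fin 4 × Fin 2 × Fin 3, slE t ∈ q8 ↔ t.2.2 = 0) ∧ (aS = a₀ ∨ aS = a₀⁻¹) := by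
  decide +kernel

/-- A homomorphism from `SL(2,3)`. -/
theorem exists_sl_hom {M : Type*} [Group M] (q r h : M) (q4 : q ^ 4 = 1) (qr : q ^ 2 = r ^ 2) (h3 : h ^ 3 = 1)
    (rq : r * q = q ^ 3 * r) (hq : h * q = r * h) (hr : h * r = q * r * h) :
    ∃ f : SL →* M, ∀ i : Fin 4, ∀ j : Fin 2, ∀ k : Fin 3, f (slE (i, j, k)) = q ^ i.val * r ^ j.val * h ^ k.val := by
  classical
  let e : Fin 4 × Fin 2 × Fin 3 ≃ SL := Equiv.ofBijective slE ⟨fun a b h => slE_bij.2 a b h, slE_bij.1⟩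
  let v : Fin 4 × Fin 2 × Fin 3 → M := fun t => q ^ t.1.val * r ^ t.2.1.val * h ^ t.2.2.val
  let f : SL → M := fun A => v (e.symm A)
  have fv : ∀ t, f (slE t) = v t := fun t => by
    show v (e.symm (e t)) = v t
    rw [e.symm_apply_apply]
  have p4 : ∀ (i : Fin 4) (c : Fin 4), q ^ (i + c).val = q ^ i.val * q ^ c.val := fun i c => by
    rw [Fin.val_add, ← pow_eq_pow_mod _ q4, pow_add]
  have p3 : ∀ (k : Fin 3), h ^ (k + 1).val = h ^ k.val * h := fun k => by
    rw [Fin.val_add, ← pow_eq_pow_mod _ h3, pow_add]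
    simp
  have stA : ∀ t, v (stepA t) = v t * q := by
    rintro ⟨i, j, k⟩
    have hh2 : h * h * q = q * r * (h * h) := by
      calc h * h * q = h * (r * h) := by rw [mul_assoc, hq]
        _ = q * r * h * h := by rw [← mul_assoc, hr]
        _ = _ := by group
    have rr : r * r = q * q := by rw [← pow_two, ← pow_two, qr]
    fin_cases j <;> fin_cases k
    · simp [v, stepA, p4, mul_assoc]
    · simp [v, stepA, mul_assoc, hq]
    · simp [v, stepA, p4, pow_two, mul_assoc]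
      rw [← mul_assoc h h q, hh2]; simp [mul_assoc]
    · simp [v, stepA, p4, mul_assoc, rq]
    · simp [v, stepA, p4, mul_assoc, hq, pow_two]
      rw [← mul_assoc r r h, rr, mul_assoc]
    · simp [v, stepA, p4, pow_two, mul_assoc]
      rw [← mul_assoc h h q, hh2]
      have e5 : q ^ 3 * (r * r) = q := by
        rw [rr, ← pow_two, ← pow_add, pow_succ, q4, one_mul]
      calc q * (h * h) = q ^ 3 * (r * r) * (h * h) := by rw [e5]
        _ = (r * q) * r * (h * h) := by rw [rq]; group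
        _ = _ := by group
  have fA : ∀ A, f (A * aS) = f A * q := fun A => by
    obtain ⟨t, rfl⟩ := slE_bij.1 A
    rw [slE_step.1, fv, fv, stA]
  have fH : ∀ A, f (A * h₀) = f A * h := fun A => by
    obtain ⟨⟨i, j, k⟩, rfl⟩ := slE_bij.1 A
    rw [slE_step.2.1, fv, fv]
    simp only [v, p3]
    group
  have f1 : f 1 = 1 := by rw [← slE_step.2.2, fv]; simp [v]
  let S : Submonoid SL :=
    { carrier := {B | ∀ A, f (A * B) = f A * f B}
      one_mem' := fun A => by rw [mul_one, f1, mul_one]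
      mul_mem' := fun {B C} hB hC A => by rw [← mul_assoc, hC, hB, hC B, mul_assoc] }
  have mA : aS ∈ S := fun A => by
    rw [fA]
    congr 1
    rw [← slE_facts.1, fv]; simp [v]
  have mH : h₀ ∈ S := fun A => by
    rw [fH]
    congr 1
    rw [← slE_facts.2.1, fv]; simp [v]
  have mB : bS ∈ S := by
    have : bS = h₀ * aS * (h₀ * h₀) := by decide +kernel
    rw [this]
    exact mul_mem (mul_mem mH mA) (mul_mem mH mH)
  have all : ∀ B, B ∈ S := fun B => by
    obtain ⟨t, rfl⟩ := slE_bij.1 B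
    exact mul_mem (mul_mem (pow_mem mA _) (pow_mem mB _)) (pow_mem mH _)
  exact ⟨MonoidHom.mk' f fun A B => all B A, fun i j k => fv (i, j, k)⟩

variable {G : Type*} [Group G] [Finite G] {z : G} (D : Dat z)

/-- The element of order three inside the centraliser, acting as the first rotation. -/
structure Three (y : G) : Prop where
  mem : y ∈ centralizer ({z} : Set G)
  three : y ^ 3 = 1
  act : actG D y = oW w0
  nwc : ∃ g : G, g * z * g⁻¹ ∈ D.Q ∧ g * z * g⁻¹ ≠ z

theorem okL_small : okL w0 = true ∧ okL w1 = true ∧ okL w2 = true ∧ okL wT = true ∧ okL wI = true ∧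
    okL wS = true ∧ okL wJ = true := by decide +kernel

variable {D} {y : G} (T : Three D y)
include T

/-- The centraliser in the centraliser of the involution. -/
def Kc (_T : Three D y) : Subgroup G := centralizer ({z} : Set G) ⊓ centralizer ({y} : Set G)

omit [Finite G] in
theorem mem_Kc {x : G} : x ∈ Kc T ↔ x ∈ centralizer ({z} : Set G) ∧ x * y = y * x := by
  rw [Kc, mem_inf, mem_centralizer_singleton_iff]
  exact and_congr_right fun _ => mem_centralizer_singleton_iff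

omit [Finite G] in
theorem Three.y_Kc : y ∈ Kc T := (mem_Kc T).2 ⟨T.mem, rfl⟩

theorem Three.act_comm {x : G} (h : x ∈ Kc T) : actG D x * oW w0 = oW w0 * actG D x := by
  obtain ⟨h1, h2⟩ := (mem_Kc T).1 h
  rw [← T.act, ← actG_mul D h1 T.mem, ← actG_mul D T.mem h1, h2]

theorem Three.act_el {x : G} (h : x ∈ Kc T) : ∃ i : Fin 108, actG D x = oW (el i.val) :=
  mem_centraliser_comm (actG_mem D) (T.act_comm h)

theorem Three.exists_el (i : Fin 108) : ∃ x ∈ Kc T, actG D x = oW (el i.val) := by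
  obtain ⟨hok, hev, hc⟩ := el_facts i
  obtain ⟨x, hx, xy, -, ex⟩ := lift_comm D T.mem T.mem T.three T.three rfl
    (h := oW (el i.val)) ((parity_mem hok).2 (Nat.even_iff.2 hev))
    (by
      rw [T.act, ← oW_append, ← oW_append]
      exact oW_eq (by rw [okL_append, hok, okL_small.1]; rfl) (by rw [okL_append, hok, okL_small.1]; rfl)
        (by
          have key : ∀ u v : List ℕ, sameW u v = true → sameW v u = true := fun u v h =>
            List.all_eq_true.2 fun b hb => by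
              have := List.all_eq_true.1 h b hb
              rw [beq_iff_eq] at this ⊢
              exact this.symm
          exact key _ _ hc))
    (by
      rw [T.act, ← oW_append, ← oW_append]
      exact oW_eq (by rw [okL_append, hok, okL_small.1]; rfl) (by rw [okL_append, hok, okL_small.1]; rfl)
        (List.all_eq_true.2 fun b hb => by
          have := List.all_eq_true.1 hc b hb
          rw [beq_iff_eq] at this ⊢
          exact this.symm))
  exact ⟨x, (mem_Kc T).2 ⟨hx, xy⟩, ex⟩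

/-- The elements of the kernel centralised by the element of order three. -/
theorem Three.mem_fixed {q : G} (hq : q ∈ D.Q) :
    q ∈ Kc T ↔ (oW w0).1 (D.π q) = D.π q := by
  constructor
  · intro h
    rw [← T.act, ← actG_π D T.mem hq, ← ((mem_Kc T).1 h).2, mul_inv_cancel_right]
  · intro h
    exact (mem_Kc T).2 ⟨SuzInvol.mem_C D hq, (comm_of_fixed D T.mem T.three hq (by rw [T.act]; exact h)).symm⟩

omit [Finite G] T in
theorem fixed_codes : Nat.card {n : Fin 64 // aN w0 n.val = n.val} = 16 ∧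
    (∀ n : Fin 64, aN w0 n.val = n.val ↔ n.val < 16) ∧
    (∀ n : Fin 16, ∃ i j k l : Fin 2, n.val =
      (if i = 1 then 5 else 0) ^^^ (if j = 1 then 11 else 0) ^^^ (if k = 1 then 7 else 0) ^^^
        (if l = 1 then 10 else 0)) := by
  refine ⟨?_, ?_, ?_⟩
  · rw [Nat.card_eq_fintype_card]; decide +kernel
  · decide +kernel
  · decide +kernel

theorem Three.fixed_lt {q : G} (hq : q ∈ D.Q) {n : ℕ} (hn : n < 64) (e : D.π q = vec n) :
    q ∈ Kc T ↔ n < 16 := by
  rw [T.mem_fixed hq, e, oW_apply okL_small.1 hn, ← (fixed_codes).2.1 ⟨n, hn⟩]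
  exact ⟨fun h => vec_inj (aN_lt okL_small.1 hn) hn h, fun h => by rw [h]⟩

/-- The centraliser has order `3456`. -/
theorem Three.card_Kc : Nat.card (Kc T) = 3456 := by
  classical
  let f : Kc T →* O6 := MonoidHom.mk' (fun x => actG D x.1)
    fun a b => actG_mul D ((mem_Kc T).1 a.2).1 ((mem_Kc T).1 b.2).1
  have hrange : Nat.card f.range = 108 := by
    let g : Fin 108 → f.range := fun i => ⟨oW (el i.val), by
      obtain ⟨x, hx, e⟩ := T.exists_el i
      exact ⟨⟨x, hx⟩, e⟩⟩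
    have hg : Function.Bijective g := by
      refine ⟨fun i j e => el_inj i j (eq_of_sameW (el_facts i).1 (el_facts j).1 (congrArg Subtype.val e)), ?_⟩
      rintro ⟨_, x, rfl⟩
      obtain ⟨i, e⟩ := T.act_el x.2
      exact ⟨i, Subtype.ext e.symm⟩
    rw [← Nat.card_congr (Equiv.ofBijective g hg), Nat.card_fin]
  have hker : Nat.card f.ker = 32 := by
    let p : f.ker →* Multiplicative M6 := MonoidHom.mk' (fun x => Multiplicative.ofAdd (D.π x.1.1)) fun a b => by
      have ha : a.1.1 ∈ D.Q := (actG_one_iff D ((mem_Kc T).1 a.1.2).1).1 a.2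
      have hb : b.1.1 ∈ D.Q := (actG_one_iff D ((mem_Kc T).1 b.1.2).1).1 b.2
      show Multiplicative.ofAdd (D.π (a.1.1 * b.1.1)) = _
      rw [D.π_mul _ ha _ hb]; rfl
    have hQk : ∀ x : f.ker, x.1.1 ∈ D.Q := fun x => (actG_one_iff D ((mem_Kc T).1 x.1.2).1).1 x.2
    have hp : Nat.card p.range = 16 := by
      rw [← (fixed_codes).1]
      have hlift : ∀ n : {n : Fin 64 // aN w0 n.val = n.val}, Multiplicative.ofAdd (vec n.1.val) ∈ p.range := by
        rintro ⟨n, hn⟩
        obtain ⟨q, hq, e⟩ := D.π_surj (vec n.val)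
        have hK : q ∈ Kc T := (T.fixed_lt hq n.isLt e).2 ((fixed_codes).2.1 n |>.1 hn)
        exact ⟨⟨⟨q, hK⟩, actG_Q D hq⟩, congrArg Multiplicative.ofAdd e⟩
      refine (Nat.card_congr (Equiv.ofBijective (fun n => (⟨_, hlift n⟩ : p.range)) ⟨fun a b e => ?_, ?_⟩)).symm
      · exact Subtype.ext (vec_inj' _ _ (congrArg Subtype.val e))
      · rintro ⟨_, x, rfl⟩
        obtain ⟨n, hn, e⟩ := exists_code (D.π x.1.1)
        have h16 : n < 16 := (T.fixed_lt (hQk x) hn e.symm).1 x.1.2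
        exact ⟨⟨⟨n, hn⟩, (fixed_codes).2.1 ⟨n, hn⟩ |>.2 h16⟩, Subtype.ext (congrArg Multiplicative.ofAdd e)⟩
    have hpk : Nat.card p.ker = 2 := by
      have hzK : z ∈ Kc T :=
        (mem_Kc T).2 ⟨mem_centralizer_singleton_iff.2 rfl, (mem_centralizer_singleton_iff.1 T.mem).symm⟩
      have hzf : (⟨z, hzK⟩ : Kc T) ∈ f.ker := actG_Q D D.pre.gen.mem
      have : (p.ker : Set f.ker) = {1, ⟨⟨z, hzK⟩, hzf⟩} := by
        ext x
        simp only [SetLike.mem_coe, MonoidHom.mem_ker, Set.mem_insert_iff, Set.mem_singleton_iff]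
        show Multiplicative.ofAdd (D.π x.1.1) = 1 ↔ _
        rw [ofAdd_eq_one, D.π_eq_zero _ (hQk x)]
        refine ⟨fun h => h.imp (fun e => Subtype.ext (Subtype.ext e)) (fun e => Subtype.ext (Subtype.ext e)), ?_⟩
        rintro (rfl | rfl)
        · exact Or.inl rfl
        · exact Or.inr rfl
      rw [← SetLike.coe_sort_coe, Nat.card_coe_set_eq, this, Set.ncard_pair]
      intro e
      exact D.pre.gen.ne_one (congrArg (fun t : f.ker => t.1.1) e).symm
    rw [Subgroup.card_eq_card_quotient_mul_card_subgroup p.ker,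
      Nat.card_congr (QuotientGroup.quotientKerEquivRange p).toEquiv, hp, hpk]
  rw [Subgroup.card_eq_card_quotient_mul_card_subgroup f.ker,
    Nat.card_congr (QuotientGroup.quotientKerEquivRange f).toEquiv, hrange, hker]

/-- The generators of one factor. -/
theorem Three.exists_factor {b : G} (hb : b ∈ centralizer ({z} : Set G)) (b3 : b ^ 3 = 1) (hby : b * y = y * b)
    {w : List ℕ} (hw : okL w = true) (hev : w.length % 2 = 0) {u u' : ℕ} (hu : u < 16) (hu' : u' < 16)
    (hqu : qN u = true) (hbu : bN u u' = true) (hwu : aN w u = u') (hwu' : aN w u' = u ^^^ u')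
    (hw3 : sameW (w ++ w ++ w) [] = true) (hw0 : sameW (w ++ w0) (w0 ++ w) = true)
    (hwb : oW w * actG D b = actG D b * oW w) (hfb : (actG D b).1 (vec u) = vec u) :
    ∃ (h q : G) (f : SL →* G), h ^ 3 = 1 ∧ h ∈ Kc T ∧ h * b = b * h ∧ actG D h = oW w ∧ q ∈ D.Q ∧
      q ∈ Kc T ∧ q * b = b * q ∧ D.π q = vec u ∧
      (∀ i : Fin 4, ∀ j : Fin 2, ∀ k : Fin 3,
        f (slE (i, j, k)) = q ^ i.val * (h * q * h⁻¹) ^ j.val * h ^ k.val) ∧ q ^ 2 = z := by
  have hΩ : oW w ∈ commutator (oGroup q6) := (parity_mem hw).2 (Nat.even_iff.2 hev)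
  have h3 : oW w ^ 3 = 1 := by
    rw [pow_succ, pow_two, ← oW_append, ← oW_append]
    exact oW_eq (by simp [okL_append, hw]) rfl hw3
  obtain ⟨h, hh, hh3, hhy, hhb, eh⟩ := lift_three D T.mem hb T.three b3 hby.symm hΩ h3
    (by
      rw [T.act, ← oW_append, ← oW_append]
      exact oW_eq (by simp [okL_append, hw, okL_small.1]) (by simp [okL_append, hw, okL_small.1]) hw0)
    hwb
  have hu64 : u < 64 := by omega
  have hu64' : u' < 64 := by omega
  have hx64 : u ^^^ u' < 64 := Nat.xor_lt_two_pow (n := 6) hu64 hu64'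
  obtain ⟨q₀, hq₀, e₀⟩ := D.π_surj (vec u)
  have hzz : z * z = 1 := D.pre.gen.sq
  have hzc : ∀ x ∈ D.Q, x * z = z * x := fun x hx => (D.pre.gen.comm_z x hx).eq
  have hhz : h * z * h⁻¹ = z := by rw [mem_centralizer_singleton_iff.1 hh, mul_inv_cancel_right]
  have e₁ : D.π (h * q₀ * h⁻¹) = vec u' := by rw [actG_π D hh hq₀, eh, e₀, oW_apply hw hu64, hwu]
  have m₁ : h * q₀ * h⁻¹ ∈ D.Q := conj_mem_Q D hh hq₀
  have e₂ : D.π (h * (h * q₀ * h⁻¹) * h⁻¹) = D.π (q₀ * (h * q₀ * h⁻¹)) := by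
    rw [actG_π D hh m₁, eh, e₁, oW_apply hw hu64', hwu', D.π_mul _ hq₀ _ m₁, e₀, e₁,
      vec_add ⟨u, hu64⟩ ⟨u', hu64'⟩]
  obtain ⟨q, hq, eq, hqq⟩ : ∃ q ∈ D.Q, D.π q = vec u ∧ h * (h * q * h⁻¹) * h⁻¹ = q * (h * q * h⁻¹) := by
    rcases eq_of_π D (mul_mem hq₀ m₁) (conj_mem_Q D hh m₁) e₂.symm with e | e
    · exact ⟨q₀, hq₀, e₀, e⟩
    · refine ⟨q₀ * z, mul_mem hq₀ D.pre.gen.mem, ?_, ?_⟩
      · rw [D.π_mul _ hq₀ _ D.pre.gen.mem, π_z, add_zero, e₀]
      · calc h * (h * (q₀ * z) * h⁻¹) * h⁻¹ = (h * (h * q₀ * h⁻¹) * h⁻¹) * (h * (h * z * h⁻¹) * h⁻¹) := by group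
          _ = q₀ * (h * q₀ * h⁻¹) := by rw [e, hhz, hhz, mul_assoc, mul_assoc, hzz, mul_one]
          _ = (q₀ * z) * ((h * q₀ * h⁻¹) * (h * z * h⁻¹)) := by
            rw [hhz, hzc _ m₁, ← mul_assoc (q₀ * z) z, mul_assoc q₀ z z, hzz, mul_one]
          _ = _ := by group
  set r := h * q * h⁻¹ with hr
  have hrQ : r ∈ D.Q := conj_mem_Q D hh hq
  have er : D.π r = vec u' := by rw [hr, actG_π D hh hq, eh, eq, oW_apply hw hu64, hwu]
  have q2 : q * q = z := by
    refine (D.pre.gen.square q hq).resolve_left fun e => ?_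
    have := (D.sq_iff q hq).1 e
    rw [eq, vec_facts.2 ⟨u, hu64⟩, hqu] at this
    exact one_ne_zero this
  have r2 : r * r = z := by
    rw [hr]
    calc h * q * h⁻¹ * (h * q * h⁻¹) = h * (q * q) * h⁻¹ := by group
      _ = z := by rw [q2, hhz]
  have q4 : q ^ 4 = 1 := by
    rw [show 4 = 2 + 2 from rfl, pow_add, pow_two, q2, hzz]
  have rq : r * q = q ^ 3 * r := by
    have hne : r * q ≠ q * r := fun e => by
      have := (D.comm_iff r hrQ q hq).1 e
      rw [er, eq, bf_comm, bf_vec ⟨u, hu64⟩ ⟨u', hu64'⟩, hbu] at this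
      exact one_ne_zero this
    have hπ : D.π (q * r) = D.π (r * q) := by rw [D.π_mul _ hq _ hrQ, D.π_mul _ hrQ _ hq, add_comm]
    rcases eq_of_π D (mul_mem hq hrQ) (mul_mem hrQ hq) hπ with e | e
    · exact absurd e hne
    · rw [e, pow_succ, pow_two, q2, mul_assoc z q r, ← hzc _ (mul_mem hq hrQ)]
  obtain ⟨f, hf⟩ := exists_sl_hom q r h q4 (by rw [pow_two, pow_two, q2, r2]) hh3 rq
    (by rw [hr]; group) (by rw [← hqq]; group)
  exact ⟨h, q, f, hh3, (mem_Kc T).2 ⟨hh, hhy⟩, hhb, eh, hq, (T.fixed_lt hq hu64 eq).2 hu,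
    (comm_of_fixed D hb b3 hq (by rw [eq]; exact hfb)).symm, eq, hf, by rw [pow_two, q2]⟩

end CfsgLib.SuzThree
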