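import Cfsg.Agent.SuzThree.Vec
import Cfsg.Agent.SuzInvol.Setting
import Cfsg.Agent.SuzInvol.Pair
import Mathlib.GroupTheory.Perm.Cycle.Type

/-!
Lifting elements commuting with elements of order three.
-/

set_option autoImplicit false
set_option linter.style.haveILetI false
set_option maxRecDepth 100000

namespace CfsgLib.SuzThree

open CfsgLib CfsgLib.Quad CfsgLib.SuzInvol Subgroup

variable {G : Type*} [Group G] [Finite G] {z : G} (D : Dat z)

open Classical in
/-- The action, extended to the whole group. -/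
noncomputable def actG (x : G) : O6 :=
  if h : x ∈ centralizer ({z} : Set G) then D.act ⟨x, h⟩ else 1

omit [Finite G] in
theorem actG_eq {x : G} (h : x ∈ centralizer ({z} : Set G)) : actG D x = D.act ⟨x, h⟩ := dif_pos h

omit [Finite G] in
theorem actG_mul {x x' : G} (h : x ∈ centralizer ({z} : Set G)) (h' : x' ∈ centralizer ({z} : Set G)) :
    actG D (x * x') = actG D x * actG D x' := by
  rw [actG_eq D h, actG_eq D h', actG_eq D (mul_mem h h'), ← map_mul]; rfl

omit [Finite G] in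
theorem actG_inv {x : G} (h : x ∈ centralizer ({z} : Set G)) : actG D x⁻¹ = (actG D x)⁻¹ := by
  rw [actG_eq D h, actG_eq D (inv_mem h), ← map_inv]; rfl

omit [Finite G] in
theorem actG_one_iff {x : G} (h : x ∈ centralizer ({z} : Set G)) : actG D x = 1 ↔ x ∈ D.Q := by
  rw [actG_eq D h]; exact D.act_eq_one _

omit [Finite G] in
theorem actG_Q {x : G} (h : x ∈ D.Q) : actG D x = 1 :=
  (actG_one_iff D (SuzInvol.mem_C D h)).2 h

omit [Finite G] in
theorem actG_one : actG D (1 : G) = 1 := actG_Q D (one_mem _)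

omit [Finite G] in
theorem actG_pow {x : G} (h : x ∈ centralizer ({z} : Set G)) (n : ℕ) : actG D (x ^ n) = actG D x ^ n := by
  rw [actG_eq D h, actG_eq D (pow_mem h n), ← map_pow]; rfl

omit [Finite G] in
theorem actG_π {x : G} (h : x ∈ centralizer ({z} : Set G)) {q : G} (hq : q ∈ D.Q) :
    D.π (x * q * x⁻¹) = (actG D x).1 (D.π q) := by
  rw [actG_eq D h]; exact D.act_π ⟨x, h⟩ q hq

omit [Finite G] in
theorem actG_surj {h : O6} (hh : h ∈ commutator (oGroup q6)) :
    ∃ c ∈ centralizer ({z} : Set G), actG D c = h := by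
  obtain ⟨c, hc⟩ := D.act_surj h hh
  exact ⟨c, c.2, by rw [actG_eq D c.2, ← hc]⟩

omit [Finite G] in
theorem actG_mem {x : G} : actG D x ∈ commutator (oGroup q6) := by
  by_cases h : x ∈ centralizer ({z} : Set G)
  · rw [actG_eq D h]; exact D.act_mem _
  · rw [actG, dif_neg h]; exact one_mem _

omit [Finite G] in
theorem mem_Q_of_act_eq {x x' : G} (h : x ∈ centralizer ({z} : Set G)) (h' : x' ∈ centralizer ({z} : Set G))
    (e : actG D x = actG D x') : x * x'⁻¹ ∈ D.Q :=
  (actG_one_iff D (mul_mem h (inv_mem h'))).1 (by rw [actG_mul D h (inv_mem h'), actG_inv D h', e, mul_inv_cancel])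

omit [Finite G] in
theorem conj_mem_Q {x q : G} (h : x ∈ centralizer ({z} : Set G)) (hq : q ∈ D.Q) : x * q * x⁻¹ ∈ D.Q :=
  D.pre.conj_mem (mem_centralizer_singleton_iff.1 h) hq

/-- Two elements of order three agreeing modulo a two-group they normalise are conjugate in it. -/
theorem exists_intertwine {K : Subgroup G} (hK : K ≤ D.Q) {a b : G} (ha : a ^ 3 = 1) (hb : b ^ 3 = 1)
    (hn : ∀ k ∈ K, a * k * a⁻¹ ∈ K) (hab : a * b⁻¹ ∈ K) : ∃ q ∈ K, a * q = q * b := by
  classical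
  haveI : Fact (Nat.Prime 3) := ⟨Nat.prime_three⟩
  have hm : ∀ k ∈ K, a * k * b⁻¹ ∈ K := fun k hk => by
    rw [show a * k * b⁻¹ = a * k * a⁻¹ * (a * b⁻¹) by group]
    exact mul_mem (hn k hk) hab
  let f : K → K := fun k => ⟨a * k.1 * b⁻¹, hm _ k.2⟩
  have ai : a⁻¹ = a * a := inv_eq_of_mul_eq_one_right (by rw [← mul_assoc, ← ha, pow_succ, pow_two])
  have hf3 : ∀ k, f (f (f k)) = k := fun k => Subtype.ext (by
    show a * (a * (a * k.1 * b⁻¹) * b⁻¹) * b⁻¹ = k.1
    have e1 : a * a * a = 1 := by rw [← ha, pow_succ, pow_two]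
    have e2 : b * b * b = 1 := by rw [← hb, pow_succ, pow_two]
    calc a * (a * (a * k.1 * b⁻¹) * b⁻¹) * b⁻¹ = (a * a * a) * k.1 * (b * b * b)⁻¹ := by group
      _ = k.1 := by rw [e1, e2]; group)
  let σ : Equiv.Perm K :=
    { toFun := f
      invFun := fun k => f (f k)
      left_inv := hf3
      right_inv := hf3 }
  haveI : Fintype K := Fintype.ofFinite K
  have hdiv : ¬ 3 ∣ Fintype.card K := by
    intro h
    have h128 : Fintype.card K ∣ 2 ^ 7 := by
      rw [← Nat.card_eq_fintype_card, show (2 : ℕ) ^ 7 = Nat.card D.Q by rw [D.card]; norm_num]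
      exact Subgroup.card_dvd_of_le hK
    have := h.trans h128
    norm_num at this
  obtain ⟨q, hq⟩ := Equiv.Perm.exists_fixed_point_of_prime (p := 3) (n := 1) hdiv (σ := σ)
    (Equiv.ext fun k => by simp [pow_succ, σ, hf3])
  refine ⟨q.1, q.2, ?_⟩
  have e : a * q.1 * b⁻¹ = q.1 := congrArg Subtype.val hq
  exact mul_inv_eq_iff_eq_mul.1 e

/-- An element of order three fixing the image of an element of the kernel commutes with it. -/
theorem comm_of_fixed {a : G} (ha : a ∈ centralizer ({z} : Set G)) (h3 : a ^ 3 = 1) {q : G} (hq : q ∈ D.Q)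
    (hfix : (actG D a).1 (D.π q) = D.π q) : a * q = q * a := by
  rcases eq_of_π D hq (conj_mem_Q D ha hq) (by rw [actG_π D ha hq, hfix]) with e | e
  · exact mul_inv_eq_iff_eq_mul.1 e
  · exfalso
    have az : a * z * a⁻¹ = z := by rw [mem_centralizer_singleton_iff.1 ha, mul_inv_cancel_right]
    have zz : z * z = 1 := D.pre.gen.sq
    have e2 : a * (a * q * a⁻¹) * a⁻¹ = q := by
      rw [e]
      calc a * (q * z) * a⁻¹ = (a * q * a⁻¹) * (a * z * a⁻¹) := by group
        _ = q := by rw [e, az, mul_assoc, zz, mul_one]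
    have e3 : a ^ 3 * q * (a ^ 3)⁻¹ = q * z := by
      calc a ^ 3 * q * (a ^ 3)⁻¹ = a * (a * (a * q * a⁻¹) * a⁻¹) * a⁻¹ := by rw [pow_succ, pow_two]; group
        _ = _ := by rw [e2, e]
    rw [h3, one_mul, inv_one, mul_one] at e3
    exact D.pre.gen.ne_one (mul_eq_left.1 e3.symm)

/-- An element of the commutator subgroup commuting with the images of two commuting elements of order
three lifts to an element commuting with both. -/
theorem lift_comm {a b : G} (ha : a ∈ centralizer ({z} : Set G)) (hb : b ∈ centralizer ({z} : Set G))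
    (a3 : a ^ 3 = 1) (b3 : b ^ 3 = 1) (hab : a * b = b * a) {h : O6} (hh : h ∈ commutator (oGroup q6))
    (hca : h * actG D a = actG D a * h) (hcb : h * actG D b = actG D b * h) :
    ∃ x ∈ centralizer ({z} : Set G), x * a = a * x ∧ x * b = b * x ∧ actG D x = h := by
  obtain ⟨x₀, hx₀, e₀⟩ := actG_surj D hh
  have step : ∀ (K : Subgroup G) (a x : G), K ≤ D.Q → a ∈ centralizer ({z} : Set G) →
      x ∈ centralizer ({z} : Set G) → a ^ 3 = 1 → (∀ k ∈ K, a * k * a⁻¹ ∈ K) → a * x * a⁻¹ * x⁻¹ ∈ K →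
      ∃ k ∈ K, (k * x) * a = a * (k * x) := by
    intro K a x hK ha hx a3 hn hm
    have hb3 : (x * a * x⁻¹) ^ 3 = 1 := by rw [conj_pow, a3]; group
    obtain ⟨k, hk, e⟩ := exists_intertwine D hK a3 hb3 hn
      (by rw [show a * (x * a * x⁻¹)⁻¹ = a * x * a⁻¹ * x⁻¹ by group]; exact hm)
    refine ⟨k, hk, ?_⟩
    calc k * x * a = k * (x * a * x⁻¹) * x := by group
      _ = a * k * x := by rw [e]
      _ = _ := by group
  have hcomm : ∀ {a x : G}, a ∈ centralizer ({z} : Set G) → x ∈ centralizer ({z} : Set G) →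
      actG D x * actG D a = actG D a * actG D x → a * x * a⁻¹ * x⁻¹ ∈ D.Q := fun {a x} ha hx e => by
    refine (actG_one_iff D (mul_mem (mul_mem (mul_mem ha hx) (inv_mem ha)) (inv_mem hx))).1 ?_
    rw [actG_mul D (mul_mem (mul_mem ha hx) (inv_mem ha)) (inv_mem hx), actG_mul D (mul_mem ha hx) (inv_mem ha),
      actG_mul D ha hx, actG_inv D ha, actG_inv D hx, ← e]
    group
  obtain ⟨k₁, hk₁, e₁⟩ := step D.Q a x₀ le_rfl ha hx₀ a3 (fun k hk => conj_mem_Q D ha hk)
    (hcomm ha hx₀ (by rw [e₀]; exact hca))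
  set x₁ := k₁ * x₀ with hx₁d
  have hx₁ : x₁ ∈ centralizer ({z} : Set G) := mul_mem (SuzInvol.mem_C D hk₁) hx₀
  have ex₁ : actG D x₁ = h := by rw [hx₁d, actG_mul D (SuzInvol.mem_C D hk₁) hx₀, actG_Q D hk₁, one_mul, e₀]
  have hca' : ∀ k : G, k * a = a * k → b * k * b⁻¹ * a = a * (b * k * b⁻¹) := by
    intro k hk
    have hbi : a * b⁻¹ = b⁻¹ * a := (Commute.inv_right (show Commute a b from hab)).eq
    calc b * k * b⁻¹ * a = b * k * (a * b⁻¹) := by rw [hbi]; group
      _ = b * (a * k) * b⁻¹ := by rw [← hk]; group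
      _ = a * b * k * b⁻¹ := by rw [hab]; group
      _ = _ := by group
  obtain ⟨k₂, hk₂, e₂⟩ := step (D.Q ⊓ centralizer ({a} : Set G)) b x₁ inf_le_left hb hx₁ b3
    (fun k hk => ⟨conj_mem_Q D hb hk.1, mem_centralizer_singleton_iff.2 (hca' k (mem_centralizer_singleton_iff.1 hk.2))⟩)
    ⟨hcomm hb hx₁ (by rw [ex₁]; exact hcb), by
      refine mem_centralizer_singleton_iff.2 ?_
      calc b * x₁ * b⁻¹ * x₁⁻¹ * a = b * x₁ * b⁻¹ * (x₁⁻¹ * a) := by group
        _ = b * x₁ * b⁻¹ * (a * x₁⁻¹) := by rw [(Commute.inv_left (show Commute x₁ a from e₁)).eq]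
        _ = (b * x₁ * b⁻¹ * a) * x₁⁻¹ := by group
        _ = (a * (b * x₁ * b⁻¹)) * x₁⁻¹ := by rw [hca' x₁ e₁]
        _ = _ := by group⟩
  refine ⟨k₂ * x₁, mul_mem (SuzInvol.mem_C D hk₂.1) hx₁, ?_, e₂, ?_⟩
  · have hk₂a : k₂ * a = a * k₂ := mem_centralizer_singleton_iff.1 hk₂.2
    rw [mul_assoc, e₁, ← mul_assoc, hk₂a, mul_assoc]
  · rw [actG_mul D (SuzInvol.mem_C D hk₂.1) hx₁, actG_Q D hk₂.1, one_mul, ex₁]

/-- The lift may be taken of order three. -/
theorem lift_three {a b : G} (ha : a ∈ centralizer ({z} : Set G)) (hb : b ∈ centralizer ({z} : Set G))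
    (a3 : a ^ 3 = 1) (b3 : b ^ 3 = 1) (hab : a * b = b * a) {h : O6} (hh : h ∈ commutator (oGroup q6))
    (h3 : h ^ 3 = 1) (hca : h * actG D a = actG D a * h) (hcb : h * actG D b = actG D b * h) :
    ∃ x ∈ centralizer ({z} : Set G), x ^ 3 = 1 ∧ x * a = a * x ∧ x * b = b * x ∧ actG D x = h := by
  obtain ⟨x, hx, xa, xb, ex⟩ := lift_comm D ha hb a3 b3 hab hh hca hcb
  have hQ : x ^ 3 ∈ D.Q := (actG_one_iff D (pow_mem hx 3)).1 (by rw [actG_pow D hx, ex, h3])
  refine ⟨x ^ 256, pow_mem hx _, ?_, ((show Commute x a from xa).pow_left 256).eq,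
    ((show Commute x b from xb).pow_left 256).eq, ?_⟩
  · have e : (⟨x ^ 3, hQ⟩ : D.Q) ^ 256 = 1 := by
      rw [show 256 = Nat.card D.Q * 2 by rw [D.card], pow_mul, pow_card_eq_one', one_pow]
    calc (x ^ 256) ^ 3 = (x ^ 3) ^ 256 := by rw [← pow_mul, ← pow_mul, mul_comm]
      _ = 1 := congrArg Subtype.val e
  · rw [actG_pow D hx, ex, show 256 = 3 * 85 + 1 from rfl, pow_succ, pow_mul, h3, one_pow, one_mul]

end CfsgLib.SuzThree
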