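import Cfsg.Agent.SuzInvol.Vectors
import Mathlib.GroupTheory.Perm.Cycle.Type

/-!
Reflection words in the six-dimensional orthogonal space of minus type over two elements, and the
centraliser of a rotation of an anisotropic line.
-/

set_option autoImplicit false
set_option maxRecDepth 100000
set_option linter.style.haveILetI false

namespace CfsgLib.SuzThree

open CfsgLib CfsgLib.Quad CfsgLib.SuzInvol QuadraticMap

/-- The bit of a coordinate. -/
def bitIdx : I6 → ℕ
  | .inl (.inl i) => i.val
  | .inl (.inr i) => 2 + i.val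
  | .inr i => 4 + i.val

/-- The vector with a given code. -/
def vec (n : ℕ) : M6 := fun k => if n.testBit (bitIdx k) then 1 else 0

/-- One bit. -/
def bb (n i : ℕ) : ℕ := if n.testBit i then 1 else 0

/-- The polar form on codes. -/
def bN (u v : ℕ) : Bool :=
  (bb u 0 * bb v 2 + bb u 2 * bb v 0 + bb u 1 * bb v 3 + bb u 3 * bb v 1 + bb u 4 * bb v 5 +
    bb u 5 * bb v 4) % 2 == 1

/-- The form on codes. -/
def qN (u : ℕ) : Bool :=
  (bb u 0 * bb u 2 + bb u 1 * bb u 3 + bb u 4 + bb u 4 * bb u 5 + bb u 5) % 2 == 1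

/-- A transvection on codes. -/
def tN (d n : ℕ) : ℕ := if bN n d then n ^^^ d else n

/-- A word of transvections on codes. -/
def aN (w : List ℕ) (n : ℕ) : ℕ := w.foldr tN n

theorem vec_facts : (∀ m : M6, ∃ n : Fin 64, vec n.val = m) ∧
    (∀ n : Fin 64, qf (vec n.val) = if qN n.val then 1 else 0) := by decide +kernel

theorem bf_vec : ∀ u v : Fin 64, bf (vec u.val) (vec v.val) = if bN u.val v.val then 1 else 0 := by
  decide +kernel

theorem vec_add : ∀ u v : Fin 64, vec u.val + vec v.val = vec (u.val ^^^ v.val) := by decide +kernel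

theorem vec_inj' : ∀ u v : Fin 64, vec u.val = vec v.val → u = v := by decide +kernel

theorem vec_inj {u v : ℕ} (hu : u < 64) (hv : v < 64) (h : vec u = vec v) : u = v :=
  congrArg Fin.val (vec_inj' ⟨u, hu⟩ ⟨v, hv⟩ h)

theorem exists_code (m : M6) : ∃ n < 64, vec n = m := by
  obtain ⟨n, hn⟩ := vec_facts.1 m
  exact ⟨n.val, n.isLt, hn⟩

theorem tN_lt : ∀ d n : Fin 64, tN d.val n.val < 64 := by decide +kernel

/-- All letters are anisotropic codes. -/
def okL (w : List ℕ) : Bool := w.all fun d => decide (d < 64) && qN d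

/-- The element of a word. -/
noncomputable def oW (w : List ℕ) : O6 := (w.map fun d => refl q6 (vec d)).prod

theorem oW_nil : oW [] = 1 := rfl

theorem oW_cons (d : ℕ) (w : List ℕ) : oW (d :: w) = refl q6 (vec d) * oW w := by simp [oW]

theorem oW_append (u v : List ℕ) : oW (u ++ v) = oW u * oW v := by simp [oW]

theorem refl_vec (d : ℕ) (hd : d < 64) (hq : qN d = true) (n : ℕ) (hn : n < 64) :
    (refl q6 (vec d)).1 (vec n) = vec (tN d n) := by
  have e1 : q6 (vec d) = 1 := by rw [q6_eq, vec_facts.2 ⟨d, hd⟩]; simp [hq]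
  rw [refl_apply, e1, polar_eq, bf_vec ⟨n, hn⟩ ⟨d, hd⟩, tN]
  have h1 : (-(1 : ZMod 2)⁻¹) = 1 := by rw [inv_one]; decide
  rw [h1, one_mul]
  by_cases h : bN n d = true
  · simp only [h, if_true, one_smul]; exact vec_add ⟨n, hn⟩ ⟨d, hd⟩
  · simp [h]

theorem aN_lt {w : List ℕ} (hw : okL w = true) {n : ℕ} (hn : n < 64) : aN w n < 64 := by
  induction w with
  | nil => exact hn
  | cons d w ih =>
    simp only [okL, List.all_cons, Bool.and_eq_true, decide_eq_true_eq] at hw
    exact tN_lt ⟨d, hw.1.1⟩ ⟨_, ih hw.2⟩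

theorem oW_apply {w : List ℕ} (hw : okL w = true) {n : ℕ} (hn : n < 64) :
    (oW w).1 (vec n) = vec (aN w n) := by
  induction w with
  | nil => rfl
  | cons d w ih =>
    simp only [okL, List.all_cons, Bool.and_eq_true, decide_eq_true_eq] at hw
    rw [oW_cons]
    show (refl q6 (vec d)).1 ((oW w).1 (vec n)) = _
    rw [ih hw.2, refl_vec d hw.1.1 hw.1.2 _ (aN_lt hw.2 hn)]
    rfl

theorem okL_append (u v : List ℕ) : okL (u ++ v) = (okL u && okL v) := by simp [okL]

/-- The six vectors of the decomposition into three anisotropic lines. -/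
def base6 : List ℕ := [16, 32, 5, 11, 7, 10]

theorem base6_span : ∀ m : M6, ∀ f : Fin 6 → ZMod 2,
    (∀ i, f i = bf m (vec (([32, 16, 11, 5, 10, 7] : List ℕ).getD i.val 0))) →
    m = f 0 • vec 16 + f 1 • vec 32 + f 2 • vec 5 + f 3 • vec 11 + f 4 • vec 7 + f 5 • vec 10 := by
  intro m f hf
  obtain ⟨n, rfl⟩ := vec_facts.1 m
  rw [hf 0, hf 1, hf 2, hf 3, hf 4, hf 5]
  clear hf f
  revert n
  decide +kernel

/-- Elements agreeing on the six vectors are equal. -/
theorem ext6 {g h : O6} (e : ∀ b ∈ base6, g.1 (vec b) = h.1 (vec b)) : g = h := by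
  refine Subtype.ext (LinearEquiv.ext fun m => ?_)
  rw [base6_span m _ fun i => rfl]
  simp only [map_add, map_smul]
  rw [e 16 (by decide), e 32 (by decide), e 5 (by decide), e 11 (by decide), e 7 (by decide), e 10 (by decide)]

/-- Agreement of two words on the six vectors. -/
def sameW (u v : List ℕ) : Bool := base6.all fun b => aN u b == aN v b

theorem oW_eq {u v : List ℕ} (hu : okL u = true) (hv : okL v = true) (h : sameW u v = true) :
    oW u = oW v := by
  refine ext6 fun b hb => ?_
  have hb' : b < 64 := (by decide : ∀ b ∈ base6, b < 64) b hb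
  rw [oW_apply hu hb', oW_apply hv hb']
  have := List.all_eq_true.1 h b hb
  rw [beq_iff_eq] at this
  rw [this]

theorem eq_of_sameW {u v : List ℕ} (hu : okL u = true) (hv : okL v = true) (h : oW u = oW v) :
    sameW u v = true := by
  refine List.all_eq_true.2 fun b hb => beq_iff_eq.2 ?_
  have hb' : b < 64 := (by decide : ∀ b ∈ base6, b < 64) b hb
  exact vec_inj (aN_lt hu hb') (aN_lt hv hb') (by rw [← oW_apply hu hb', ← oW_apply hv hb', h])

theorem parity_mem {w : List ℕ} (hw : okL w = true) :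
    oW w ∈ commutator (oGroup q6) ↔ Even w.length := by
  have h : ∀ v ∈ w.map vec, q6 v ≠ 0 := by
    intro v hv
    obtain ⟨d, hd, rfl⟩ := List.mem_map.1 hv
    have hd' := List.all_eq_true.1 hw d hd
    simp only [Bool.and_eq_true, decide_eq_true_eq] at hd'
    rw [q6_eq, vec_facts.2 ⟨d, hd'.1⟩]
    simp [hd'.2]
  have e : oW w = reflProd q6 (w.map vec) := by
    induction w with
    | nil => rw [List.map_nil, reflProd_nil]; rfl
    | cons d w ih =>
      rw [List.map_cons, reflProd_cons, oW_cons, ih (by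
        simp only [okL, List.all_cons, Bool.and_eq_true] at hw; exact hw.2)
        fun v hv => h v (by rw [List.map_cons]; exact List.mem_cons_of_mem _ hv)]
  rw [e, reflProd_mem_commutator_iff nondeg6 hgen6 h, List.length_map]
  simp only [isSquare_char_two, and_true]

/-- The rotation of the first line. -/
def w0 : List ℕ := [16, 32]

/-- The rotation of the second line. -/
def w1 : List ℕ := [5, 11]

/-- The rotation of the third line. -/
def w2 : List ℕ := [7, 10]

/-- The reflection inside the third line. -/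
def wT : List ℕ := [7]

/-- The inversion of the second and third rotations. -/
def wI : List ℕ := [5, 7]

/-- The exchange of the second and third lines. -/
def wS : List ℕ := [16, 17, 18, 19]

/-- The inversion of the first and third rotations. -/
def wJ : List ℕ := [16, 7]

/-- The elements of the centraliser of the first rotation. -/
def el (i : ℕ) : List ℕ :=
  (List.replicate (i % 3) w0).flatten ++ (List.replicate (i / 3 % 3) w1).flatten ++
    (List.replicate (i / 9 % 3) w2).flatten ++ (if i / 27 % 2 = 1 then wI else []) ++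
    (if i / 54 % 2 = 1 then wS else [])

theorem el_facts : ∀ i : Fin 108, okL (el i.val) = true ∧ (el i.val).length % 2 = 0 ∧
    sameW (w0 ++ el i.val) (el i.val ++ w0) = true := by decide +kernel

theorem el_inj : ∀ i j : Fin 108, sameW (el i.val) (el j.val) = true → i = j := by decide +kernel

/-- The anisotropic vectors orthogonal to the first line. -/
def six : List ℕ := [5, 7, 10, 11, 13, 14]

theorem six_spec : ∀ n : Fin 64, qN n.val = true → bN n.val 16 = false → bN n.val 32 = false →
    n.val ∈ six := by decide +kernel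

theorem image_w0 : ∀ n : Fin 64, aN w0 n.val ^^^ n.val ∈ [0, 16, 32, 48] := by decide +kernel

/-- The test that an admissible sextuple occurs among the elements or their translates. -/
def sextTest (P U U' X X' : ℕ) : Bool :=
  !(bN U U' && bN X X' && !bN U X && !bN U X' && !bN U' X && !bN U' X') ||
    (List.range 108).any fun i =>
      (base6.map (aN (el i)) == [P, aN w0 P, U, U', X, X']) ||
        (base6.map (aN (el i ++ wT)) == [P, aN w0 P, U, U', X, X'])

theorem sextTest_all : ∀ P ∈ ([16, 32, 48] : List ℕ), ∀ U ∈ six, ∀ U' ∈ six, ∀ X ∈ six, ∀ X' ∈ six,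
    sextTest P U U' X X' = true := by decide +kernel

theorem mem_centraliser {h : O6} (hh : h * oW w0 = oW w0 * h) :
    ∃ i : Fin 108, h = oW (el i.val) ∨ h = oW (el i.val) * oW wT := by
  have hok0 : okL w0 = true := by decide +kernel
  have hval : ∀ b, b < 64 → ∃ c, c < 64 ∧ h.1 (vec b) = vec c := fun b _ => by
    obtain ⟨c, hc, e⟩ := exists_code (h.1 (vec b))
    exact ⟨c, hc, e.symm⟩
  obtain ⟨P, hP, eP⟩ := hval 16 (by norm_num)
  obtain ⟨P', hP', eP'⟩ := hval 32 (by norm_num)
  obtain ⟨U, hU, eU⟩ := hval 5 (by norm_num)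
  obtain ⟨U', hU', eU'⟩ := hval 11 (by norm_num)
  obtain ⟨X, hX, eX⟩ := hval 7 (by norm_num)
  obtain ⟨X', hX', eX'⟩ := hval 10 (by norm_num)
  have hcomm : ∀ v, h.1 ((oW w0).1 v) = (oW w0).1 (h.1 v) := fun v =>
    DFunLike.congr_fun (congrArg Subtype.val hh) v
  have hPP' : P' = aN w0 P := by
    refine vec_inj hP' (aN_lt hok0 hP) ?_
    rw [← oW_apply hok0 hP, ← eP, ← hcomm, oW_apply hok0 (by norm_num), ← eP',
      show aN w0 16 = 32 by decide +kernel]
  have hPmem : P ∈ ([16, 32, 48] : List ℕ) := by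
    have e : vec P = (oW w0).1 (vec P') + vec P' := by
      rw [← eP', ← hcomm, ← map_add, ← eP, oW_apply hok0 (by norm_num), vec_add ⟨_, aN_lt hok0 (by norm_num)⟩ ⟨32, by norm_num⟩,
        show aN w0 32 ^^^ 32 = 16 by decide +kernel]
    rw [oW_apply hok0 hP', vec_add ⟨_, aN_lt hok0 hP'⟩ ⟨P', hP'⟩] at e
    have hm := image_w0 ⟨P', hP'⟩
    have hlt : aN w0 P' ^^^ P' < 64 := (by decide : ∀ n ∈ ([0, 16, 32, 48] : List ℕ), n < 64) _ hm
    rw [← vec_inj hP hlt e] at hm
    have hne : P ≠ 0 := by
      rintro rfl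
      have h1 : h.1 (vec 16) = h.1 (vec 0) := by
        rw [eP, show vec 0 = (0 : M6) by decide +kernel, map_zero]
      exact absurd (vec_inj (by norm_num) (by norm_num) (h.1.injective h1)) (by norm_num)
    simp only [List.mem_cons, List.not_mem_nil, or_false] at hm ⊢
    tauto
  have hq : ∀ {b c : ℕ}, b < 64 → c < 64 → h.1 (vec b) = vec c → qN c = qN b := by
    intro b c hb hc e
    have e1 := qf_oGroup h (vec b)
    rw [e, vec_facts.2 ⟨c, hc⟩, vec_facts.2 ⟨b, hb⟩] at e1
    revert e1
    cases qN c <;> cases qN b <;> simp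
  have hb : ∀ {b c b' c' : ℕ}, b < 64 → c < 64 → b' < 64 → c' < 64 → h.1 (vec b) = vec c →
      h.1 (vec b') = vec c' → bN c c' = bN b b' := by
    intro b c b' c' l1 l2 l3 l4 e e'
    have e1 := bf_oGroup h (vec b) (vec b')
    rw [e, e', bf_vec ⟨c, l2⟩ ⟨c', l4⟩, bf_vec ⟨b, l1⟩ ⟨b', l3⟩] at e1
    revert e1
    cases bN c c' <;> cases bN b b' <;> simp
  have hsix : ∀ {b c : ℕ}, b < 64 → c < 64 → h.1 (vec b) = vec c → qN b = true →
      bN b 16 = false → bN b 32 = false → c ∈ six := by
    intro b c l1 l2 e hq1 h1 h2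
    refine six_spec ⟨c, l2⟩ ((hq l1 l2 e).trans hq1) ?_ ?_
    · -- the line is stable
      have e16 : ∀ d ∈ ([16, 32, 48] : List ℕ), bN c d = false := by
        intro d hd
        have key : ∀ d ∈ ([16, 32, 48] : List ℕ), bN c d = true → bN c P = true ∨ bN c (aN w0 P) = true := by
          revert hPmem
          revert l2
          generalize c = c
          intro l2 hPmem
          have := (by decide +kernel : ∀ c : Fin 64, ∀ P ∈ ([16, 32, 48] : List ℕ), ∀ d ∈ ([16, 32, 48] : List ℕ),
            bN c.val d = true → bN c.val P = true ∨ bN c.val (aN w0 P) = true) ⟨c, l2⟩ P hPmem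
          exact this
        cases hcd : bN c d
        · rfl
        · exfalso
          rcases key d hd hcd with k | k
          · rw [hb l1 l2 (by norm_num) hP e eP, h1] at k; exact Bool.noConfusion k
          · rw [← hPP', hb l1 l2 (by norm_num) hP' e eP', h2] at k; exact Bool.noConfusion k
      exact e16 16 (by decide)
    · cases hcd : bN c 32
      · rfl
      · exfalso
        have key := (by decide +kernel : ∀ c : Fin 64, ∀ P ∈ ([16, 32, 48] : List ℕ),
          bN c.val 32 = true → bN c.val P = true ∨ bN c.val (aN w0 P) = true) ⟨c, l2⟩ P hPmem hcd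
        rcases key with k | k
        · rw [hb l1 l2 (by norm_num) hP e eP, h1] at k; exact Bool.noConfusion k
        · rw [← hPP', hb l1 l2 (by norm_num) hP' e eP', h2] at k; exact Bool.noConfusion k
  have mU := hsix (by norm_num) hU eU (by decide +kernel) (by decide +kernel) (by decide +kernel)
  have mU' := hsix (by norm_num) hU' eU' (by decide +kernel) (by decide +kernel) (by decide +kernel)
  have mX := hsix (by norm_num) hX eX (by decide +kernel) (by decide +kernel) (by decide +kernel)
  have mX' := hsix (by norm_num) hX' eX' (by decide +kernel) (by decide +kernel) (by decide +kernel)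
  have b1 : bN U U' = true := (hb (by norm_num) hU (by norm_num) hU' eU eU').trans (by decide +kernel)
  have b2 : bN X X' = true := (hb (by norm_num) hX (by norm_num) hX' eX eX').trans (by decide +kernel)
  have b3 : bN U X = false := (hb (by norm_num) hU (by norm_num) hX eU eX).trans (by decide +kernel)
  have b4 : bN U X' = false := (hb (by norm_num) hU (by norm_num) hX' eU eX').trans (by decide +kernel)
  have b5 : bN U' X = false := (hb (by norm_num) hU' (by norm_num) hX eU' eX).trans (by decide +kernel)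
  have b6 : bN U' X' = false := (hb (by norm_num) hU' (by norm_num) hX' eU' eX').trans (by decide +kernel)
  have ht := sextTest_all P hPmem U mU U' mU' X mX X' mX'
  rw [sextTest, b1, b2, b3, b4, b5, b6] at ht
  simp only [Bool.and_self, Bool.not_true, Bool.not_false, Bool.false_or, List.any_eq_true, List.mem_range,
    Bool.or_eq_true, beq_iff_eq] at ht
  obtain ⟨i, hi, hi'⟩ := ht
  obtain ⟨hok, -, -⟩ := el_facts ⟨i, hi⟩
  have fin : ∀ w : List ℕ, okL w = true → base6.map (aN w) = [P, aN w0 P, U, U', X, X'] → h = oW w := by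
    intro w hw e
    simp only [base6, List.map_cons, List.map_nil, List.cons.injEq, and_true] at e
    obtain ⟨a1, a2, a3, a4, a5, a6⟩ := e
    refine ext6 fun b hb => ?_
    simp only [base6, List.mem_cons, List.not_mem_nil, or_false] at hb
    rcases hb with rfl | rfl | rfl | rfl | rfl | rfl <;> rw [oW_apply hw (by norm_num)]
    · rw [eP, a1]
    · rw [eP', a2, hPP']
    · rw [eU, a3]
    · rw [eU', a4]
    · rw [eX, a5]
    · rw [eX', a6]
  rcases hi' with e | e
  · exact ⟨⟨i, hi⟩, Or.inl (fin _ hok e)⟩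
  · exact ⟨⟨i, hi⟩, Or.inr (by
      rw [← oW_append]; exact fin _ (by rw [okL_append, hok]; decide +kernel) e)⟩

/-- The centraliser of the first rotation in the commutator subgroup. -/
theorem mem_centraliser_comm {h : O6} (hΩ : h ∈ commutator (oGroup q6)) (hh : h * oW w0 = oW w0 * h) :
    ∃ i : Fin 108, h = oW (el i.val) := by
  obtain ⟨i, e | e⟩ := mem_centraliser hh
  · exact ⟨i, e⟩
  · exfalso
    obtain ⟨hok, hev, -⟩ := el_facts i
    rw [e, ← oW_append, parity_mem (by rw [okL_append, hok]; decide +kernel)] at hΩ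
    rw [List.length_append, Nat.even_iff] at hΩ
    simp [wT] at hΩ
    omega

theorem step_one : ∀ p : Fin 64, qN p.val = true → ∃ r₁ ∈ (List.range 64).filter qN,
    ∃ r₂ ∈ (List.range 64).filter qN, aN [r₁, r₂] p.val = 16 := by decide +kernel

theorem step_two : ∀ p : Fin 64, qN p.val = true → bN 16 p.val = true →
    ∃ r₁ ∈ (List.range 64).filter (fun r => qN r && !bN r 16),
    ∃ r₂ ∈ (List.range 64).filter (fun r => qN r && !bN r 16), aN [r₁, r₂] p.val = 32 := by decide +kernel

theorem pair_std {p p' : M6} (hp : qf p = 1) (hp' : qf p' = 1) (hb : bf p p' = 1) :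
    ∃ h : O6, h ∈ commutator (oGroup q6) ∧ h.1 p = vec 16 ∧ h.1 p' = vec 32 := by
  obtain ⟨a, ha, rfl⟩ := exists_code p
  have hqa : qN a = true := by
    rw [vec_facts.2 ⟨a, ha⟩] at hp
    cases h : qN a <;> simp_all
  obtain ⟨r₁, m1, r₂, m2, e⟩ := step_one ⟨a, ha⟩ hqa
  simp only [List.mem_filter, List.mem_range] at m1 m2
  have ok1 : okL [r₁, r₂] = true := by simp [okL, m1.1, m1.2, m2.1, m2.2]
  set g := oW [r₁, r₂] with hg
  have ga : g.1 (vec a) = vec 16 := by rw [hg, oW_apply ok1 ha, e]
  obtain ⟨b, hbl, hb'⟩ := exists_code (g.1 p')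
  have hqb : qN b = true := by
    have e1 := qf_oGroup g p'
    rw [← hb', vec_facts.2 ⟨b, hbl⟩, hp'] at e1
    cases h : qN b <;> simp_all
  have hbb : bN 16 b = true := by
    have e1 := bf_oGroup g (vec a) p'
    rw [ga, ← hb', bf_vec ⟨16, by norm_num⟩ ⟨b, hbl⟩, hb] at e1
    cases h : bN 16 b <;> simp_all
  obtain ⟨s₁, n1, s₂, n2, e2⟩ := step_two ⟨b, hbl⟩ hqb hbb
  simp only [List.mem_filter, List.mem_range, Bool.and_eq_true, Bool.not_eq_true'] at n1 n2
  have ok2 : okL [s₁, s₂] = true := by simp [okL, n1.1, n1.2.1, n2.1, n2.2.1]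
  have fix16 : aN [s₁, s₂] 16 = 16 := by
    have key : ∀ s : Fin 64, bN s.val 16 = false → bN 16 s.val = false := by decide +kernel
    show tN s₁ (tN s₂ 16) = 16
    have t2 : tN s₂ 16 = 16 := by rw [tN, key ⟨s₂, n2.1⟩ n2.2.2]; rfl
    rw [t2, tN, key ⟨s₁, n1.1⟩ n1.2.2]; rfl
  refine ⟨oW [s₁, s₂] * g, mul_mem ((parity_mem ok2).2 ⟨1, rfl⟩) ((parity_mem ok1).2 ⟨1, rfl⟩), ?_, ?_⟩
  · show (oW [s₁, s₂]).1 (g.1 (vec a)) = _
    rw [ga, oW_apply ok2 (by norm_num), fix16]
  · show (oW [s₁, s₂]).1 (g.1 p') = _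
    rw [← hb', oW_apply ok2 hbl, e2]

set_option maxHeartbeats 1000000 in
/-- An element of order three with small moved space is conjugate to the first rotation. -/
theorem std_conj {g : O6} (h3 : g ^ 3 = 1) (hne : g ≠ 1)
    (hI : Nat.card (Set.range fun m : M6 => g.1 m + m) ≤ 8) :
    ∃ h : O6, h ∈ commutator (oGroup q6) ∧ h * g * h⁻¹ = oW w0 := by
  classical
  let f : M6 →+ M6 := AddMonoidHom.mk' (fun m => g.1 m + m) fun a b => by simp only [map_add]; abel
  set I := f.range with hIdef
  have hg3 : ∀ m, g.1 (g.1 (g.1 m)) = m := fun m => by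
    have := DFunLike.congr_fun (congrArg Subtype.val h3) m
    rw [pow_succ, pow_two] at this
    exact this
  have hfix : ∀ v ∈ I, g.1 v = v → v = 0 := by
    rintro _ ⟨m, rfl⟩ e
    have e1 : g.1 (g.1 m) = m := by
      have e' : g.1 (g.1 m) + g.1 m = g.1 m + m := (map_add g.1 _ _).symm.trans e
      rw [add_comm (g.1 m) m] at e'
      exact add_right_cancel e'
    show g.1 m + m = 0
    conv_lhs => rw [show g.1 m = g.1 (g.1 (g.1 m)) by rw [e1], hg3]
    exact add_self m
  have hmap : ∀ v ∈ I, g.1 v ∈ I := by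
    rintro _ ⟨m, rfl⟩
    exact ⟨g.1 m, (map_add g.1 _ _).symm⟩
  let σ : Function.End I := fun v => ⟨g.1 v.1, hmap _ v.2⟩
  have hσ : σ ^ (3 ^ 1) = 1 := funext fun v => Subtype.ext (hg3 v.1)
  have hmod := Equiv.Perm.card_fixedPoints_modEq hσ
  have hfp : Fintype.card (Function.fixedPoints σ) = 1 := by
    rw [Fintype.card_eq_one_iff]
    refine ⟨⟨0, Subtype.ext (map_zero g.1)⟩, ?_⟩
    rintro ⟨v, hv⟩
    exact Subtype.ext (Subtype.ext (hfix v.1 v.2 (congrArg Subtype.val hv)))
  rw [hfp, Nat.modEq_iff_dvd] at hmod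
  have hle : Fintype.card I ≤ 8 := by
    rw [← Nat.card_eq_fintype_card]
    exact hI
  have hd : Fintype.card I ∣ 2 ^ 6 := by
    have := AddSubgroup.card_addSubgroup_dvd_card I
    rw [Nat.card_eq_fintype_card, Nat.card_eq_fintype_card, show Fintype.card M6 = 2 ^ 6 by simp [M6, I6]] at this
    exact this
  obtain ⟨k, hk, hk2⟩ := (Nat.dvd_prime_pow Nat.prime_two).1 hd
  have hk3 : k ≤ 3 := by
    by_contra h
    have : 2 ^ 4 ≤ 2 ^ k := Nat.pow_le_pow_right (by norm_num) (by omega)
    omega
  have hcard : Fintype.card I = 4 := by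
    rw [hk2] at hmod hle ⊢
    interval_cases k
    · exfalso
      refine hne (Subtype.ext (LinearEquiv.ext fun m => ?_))
      have hm : g.1 m + m ∈ I := ⟨m, rfl⟩
      have h0 : (⟨g.1 m + m, hm⟩ : I) = ⟨0, zero_mem _⟩ :=
        Fintype.card_le_one_iff.1 (by rw [hk2]; norm_num) _ _
      have : g.1 m + m = 0 := congrArg Subtype.val h0
      show g.1 m = m
      rw [← add_zero (g.1 m), ← add_self m, ← add_assoc, this, zero_add]
    · norm_num at hmod
    · rfl
    · norm_num at hmod
  obtain ⟨⟨w, hwI⟩, hw0⟩ := Fintype.exists_ne_of_one_lt_card (by rw [hcard]; norm_num) (⟨0, zero_mem _⟩ : I)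
  have hwne : w ≠ 0 := fun e => hw0 (Subtype.ext e)
  set w' := g.1 w with hw'
  have hw'I : w' ∈ I := hmap w hwI
  have hgw' : g.1 w' = w + w' := by
    have hx : g.1 w' + (w + w') ∈ I := add_mem (hmap _ hw'I) (add_mem hwI hw'I)
    have hx0 := hfix _ hx (by
      simp only [map_add, hw', hg3]
      abel)
    rwa [← sub_eq_zero, sub_eq_add_neg, show -(w + w') = w + w' from funext fun _ => CharTwo.neg_eq _]
  have hne' : w' ≠ w := fun e => hwne (hfix w hwI e)
  have hw'ne : w' ≠ 0 := fun e => hwne (g.1.injective (e.trans (map_zero g.1).symm))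
  have hS : ∀ v ∈ I, v = 0 ∨ v = w ∨ v = w' ∨ v = w + w' := by
    intro v hv
    let S : Finset I := {⟨0, zero_mem _⟩, ⟨w, hwI⟩, ⟨w', hw'I⟩, ⟨w + w', add_mem hwI hw'I⟩}
    have hSc : S.card = 4 := by
      have n3 : w + w' ≠ 0 := fun e => hne' (by
        rw [← zero_add w', ← add_self w, add_assoc, e, add_zero])
      have n4 : w + w' ≠ w := fun e => hw'ne (add_eq_left.1 e)
      have n5 : w + w' ≠ w' := fun e => hwne (add_eq_right.1 e)
      simp [S, hwne.symm, hw'ne.symm, hne'.symm, n3.symm, n4.symm, n5.symm]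
    have : (⟨v, hv⟩ : I) ∈ S := by
      rw [Finset.eq_univ_of_card S (hSc.trans hcard.symm)]; exact Finset.mem_univ _
    simpa [S] using this
  have hperp : ∀ m : M6, ∀ v ∈ I, g.1 m = m → bf v m = 0 := by
    rintro m _ ⟨u, rfl⟩ e
    show bf (g.1 u + u) m = 0
    rw [bf_add_left]
    conv_lhs => arg 1; rw [← e, bf_oGroup]
    exact CharTwo.add_self_eq_zero _
  have hqw : bf w w' = qf w := by
    have h1 := qf_oGroup g w'
    rw [hgw', qf_add, hw', qf_oGroup] at h1
    rw [← hw'] at h1
    calc bf w w' = qf w + qf w + bf w w' + qf w + (qf w) := by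
          rw [CharTwo.add_self_eq_zero, zero_add, add_assoc, CharTwo.add_self_eq_zero, add_zero]
      _ = _ := by rw [h1]; rw [CharTwo.add_self_eq_zero, zero_add]
  have hb1 : bf w w' = 1 := by
    rcases zmod2_cases (bf w w') with h | h
    · exfalso
      have hqw0 : qf w = 0 := hqw ▸ h
      refine hwne (eq_zero_of_bf fun v => ?_)
      have hv : g.1 v + v ∈ I := ⟨v, rfl⟩
      obtain ⟨m, hm⟩ := hwI
      have hm' : g.1 m + m = w := hm
      -- a vector of the moved space orthogonal to it is orthogonal to everything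
      have hW : ∀ a ∈ I, bf w a = 0 := by
        intro a ha
        rcases hS a ha with rfl | rfl | rfl | rfl
        · exact bf_zero_right _
        · exact bf_self _
        · exact h
        · rw [bf_add_right, bf_self, h, add_zero]
      have hfixed : g.1 (g.1 (g.1 v) + g.1 v + v) = g.1 (g.1 v) + g.1 v + v := by
        simp only [map_add, hg3]; abel
      have e1 : v = (g.1 (g.1 v) + g.1 v + v) + g.1 (g.1 v + v) := by
        simp only [map_add]
        calc v = v + ((g.1 (g.1 v) + g.1 v) + (g.1 (g.1 v) + g.1 v)) := by rw [add_self, add_zero]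
          _ = _ := by abel
      rw [e1, bf_add_right, hperp _ _ ⟨m, hm'⟩ hfixed, hW _ (hmap _ hv), add_zero]
    · exact h
  have hq1 : qf w = 1 := hqw ▸ hb1
  have hq2 : qf w' = 1 := by rw [hw', qf_oGroup]; exact hq1
  obtain ⟨h, hh, hhw, hhw'⟩ := pair_std hq1 hq2 hb1
  refine ⟨h, hh, ?_⟩
  have hok0 : okL w0 = true := by decide +kernel
  have hfixed : ∀ b : ℕ, b < 64 → bN b 16 = false → bN b 32 = false → g.1 (h⁻¹.1 (vec b)) = h⁻¹.1 (vec b) := by
    intro b hbl h1 h2
    set k := h⁻¹.1 (vec b) with hk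
    have hhk : h.1 k = vec b := h.1.apply_symm_apply _
    have k1 : bf k w = 0 := by
      rw [← bf_oGroup h, hhk, hhw, bf_vec ⟨b, hbl⟩ ⟨16, by norm_num⟩, h1]; simp
    have k2 : bf k w' = 0 := by
      rw [← bf_oGroup h, hhk, hhw', bf_vec ⟨b, hbl⟩ ⟨32, by norm_num⟩, h2]; simp
    have hd : g.1 k + k ∈ I := ⟨k, rfl⟩
    have e1 : bf (g.1 k + k) w = 0 := by
      have : w = g.1 (w + w') := by
        rw [map_add, hgw', ← hw']
        rw [add_comm w w', ← add_assoc, add_self, zero_add]
      rw [bf_add_left, k1, add_zero]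
      conv_lhs => arg 2; rw [this]
      rw [bf_oGroup, bf_add_right, k1, k2, add_zero]
    have e2 : bf (g.1 k + k) w' = 0 := by
      rw [bf_add_left, k2, add_zero, hw', bf_oGroup, k1]
    have hz : g.1 k + k = 0 := by
      rcases hS _ hd with e | e | e | e
      · exact e
      · rw [e, hb1] at e2; exact absurd e2 one_ne_zero
      · rw [e, bf_comm, hb1] at e1; exact absurd e1 one_ne_zero
      · rw [e, bf_add_left, bf_self, bf_comm w' w, hb1, zero_add] at e1; exact absurd e1 one_ne_zero
    rw [← add_zero (g.1 k), ← add_self k, ← add_assoc, hz, zero_add]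
  refine ext6 fun b hb => ?_
  show h.1 (g.1 (h⁻¹.1 (vec b))) = _
  simp only [base6, List.mem_cons, List.not_mem_nil, or_false] at hb
  rcases hb with rfl | rfl | rfl | rfl | rfl | rfl <;> rw [oW_apply hok0 (by norm_num)]
  · rw [show h⁻¹.1 (vec 16) = w by rw [← hhw]; exact h.1.symm_apply_apply w, ← hw', hhw']
    rfl
  · rw [show h⁻¹.1 (vec 32) = w' by rw [← hhw']; exact h.1.symm_apply_apply w', hgw', map_add, hhw, hhw',
      vec_add ⟨16, by norm_num⟩ ⟨32, by norm_num⟩]
    rfl
  all_goals
    rw [hfixed _ (by norm_num) (by decide +kernel) (by decide +kernel)]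
    exact (h.1.apply_symm_apply _).trans rfl

end CfsgLib.SuzThree
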